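import Cfsg.Agent.Lib.LocalEvenB.MinIndexSU.ThreeIndex.Chord
import Cfsg.Agent.Lib.Classical.Unitary.ThreeInvolutions

/-!
Parity: the torus pairs points off in even characteristic, and involutions single out chords in odd
characteristic.
-/

set_option autoImplicit false

namespace CfsgLib.LocalEvenB.MinIndexSU

open CfsgLib.Classical CfsgLib.Classical.Herm

theorem even_card_of_involutive {α : Type*} [Fintype α] (f : α → α) (h1 : ∀ x, f (f x) = x)
    (h2 : ∀ x, f x ≠ x) : Even (Fintype.card α) := by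
  have h : ∑ _x : α, (1 : ZMod 2) = 0 :=
    Finset.sum_involution (fun x _ => f x) (fun _ _ => by decide) (fun x _ _ => h2 x)
      (fun x _ => Finset.mem_univ _) (fun x _ => h1 x)
  rw [Finset.sum_const, Finset.card_univ, nsmul_eq_mul, mul_one] at h
  exact ZMod.natCast_eq_zero_iff_even.1 h

theorem exists_conj_of_inverted {G : Type*} [Group G] {j u : G} (hj : j * j = 1)
    (hju : j * u * j = u⁻¹) (hodd : Odd (orderOf u)) :
    ∃ k : ℕ, (u ^ k)⁻¹ * j * u ^ k = j * u := by
  obtain ⟨m, hm⟩ := hodd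
  refine ⟨m + 1, ?_⟩
  have hjinv : j⁻¹ = j := inv_eq_of_mul_eq_one_right hj
  have hk : ∀ k : ℕ, j * u ^ k * j = (u ^ k)⁻¹ := fun k => by
    have h1 := conj_pow (i := k) (a := j) (b := u)
    rw [hjinv, hju, inv_pow] at h1
    exact h1.symm
  calc (u ^ (m + 1))⁻¹ * j * u ^ (m + 1)
      = j * u ^ (m + 1) * (j * j) * u ^ (m + 1) := by rw [← hk]; simp [mul_assoc]
    _ = j * (u ^ (m + 1) * u ^ (m + 1)) := by rw [hj, mul_one, mul_assoc]
    _ = j * u := by
      rw [← pow_add, show m + 1 + (m + 1) = orderOf u + 1 by omega, pow_succ, pow_orderOf_eq_one,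
        one_mul]

variable {F : Type*} [Field F] {V : Type*} [AddCommGroup V] [Module F V] {σ : F →+* F}
  {B : V →ₛₗ[σ] V →ₗ[F] F} [Finite F] [FiniteDimensional F V] (h : IsHerm B)
  (h3 : Module.finrank F V = 3) (H : Subgroup (HSU B))
include h h3

/-- An element with generic scalar at its fixed point fixes exactly one other point. -/
theorem exists_unique_fixed (P : HPair B) {g : HSU B} {α : F} (hg : ap g P.v = α • P.v)
    (hα : α * σ α ≠ 1) :
    ∃ y : isoPts B, y ≠ isoPoint P.v_ne P.vv ∧ g • y = y ∧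
      ∀ z : isoPts B, g • z = z → z = isoPoint P.v_ne P.vv ∨ z = y := by
  have hα0 := HPair.scalar_ne_of_v h hg
  have hσ : σ α ≠ 0 := fun e => hα0 (IsInvol.apply_eq_zero_iff.1 e)
  obtain ⟨y, hy0, hy⟩ : ∃ y, y ≠ 0 ∧ ap g y = (σ α)⁻¹ • y := by
    by_contra hn
    push Not at hn
    set T : V →ₗ[F] V := (ap g : V →ₗ[F] V) - (σ α)⁻¹ • LinearMap.id
    have hinj : Function.Injective T := by
      refine LinearMap.ker_eq_bot.1 (LinearMap.ker_eq_bot'.2 fun y hy => ?_)
      by_contra h0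
      exact hn y h0 (sub_eq_zero.1 hy)
    obtain ⟨y, hy⟩ := LinearMap.injective_iff_surjective.1 hinj P.f
    have h1 := congrArg (B P.v) hy
    have h2 : B P.v y = σ α * B P.v (ap g y) := by
      conv_lhs => rw [← ap_eq g, hg, smul_left]
    simp only [T, LinearMap.sub_apply, LinearMap.smul_apply, LinearMap.id_apply,
      LinearEquiv.coe_coe, map_sub, smul_right, P.vf] at h1
    rw [h2, inv_mul_cancel_left₀ hσ, sub_self] at h1
    exact zero_ne_one h1
  have hne : ∀ a : F, y ≠ a • P.v := fun a e => hα (by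
    have ha : a ≠ 0 := fun e0 => hy0 (by rw [e, e0, zero_smul])
    have h1 := hy
    rw [e, LinearEquiv.map_smul, hg, smul_comm] at h1
    have h2 := smul_left_injective F (show a • P.v ≠ 0 from smul_ne_zero ha P.v_ne) h1
    exact (congrArg (· * σ α) h2).trans (inv_mul_cancel₀ hσ))
  have hyy : B y y = 0 := by
    have h1 := ap_eq g y y
    rw [hy, smul_left, smul_right, map_inv₀, h.invol.invol, ← mul_assoc, ← mul_inv] at h1
    by_contra h0
    exact hα (inv_eq_one.1 ((mul_eq_right₀ h0).1 h1))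
  refine ⟨isoPoint hy0 hyy, fun e => ?_, (isoPoint_congr _ _).2 ⟨_, hy⟩, fun z hz => ?_⟩
  · obtain ⟨a, ha⟩ := (isoPoint_eq_iff hy0 hyy P.v_ne P.vv).1 e
    exact hne a ha.symm
  obtain ⟨w, hw, hww, rfl⟩ := exists_isoPoint_eq z
  obtain ⟨ν, hν⟩ := (isoPoint_congr hw hww).1 hz
  by_contra hn
  push Not at hn
  have hb1 : B P.v w ≠ 0 := perp_ne_zero h h3 P.v_ne P.vv hww fun a e =>
    hn.1 ((isoPoint_eq_iff hw hww P.v_ne P.vv).2 ⟨a, e.symm⟩)
  have hb2 : B y w ≠ 0 := perp_ne_zero h h3 hy0 hyy hww fun a e =>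
    hn.2 ((isoPoint_eq_iff hw hww hy0 hyy).2 ⟨a, e.symm⟩)
  have e1 : σ α * ν = 1 := by
    have := ap_eq g P.v w
    rw [hg, hν, smul_left, smul_right, ← mul_assoc] at this
    exact (mul_eq_right₀ hb1).1 this
  have e2 : α⁻¹ * ν = 1 := by
    have := ap_eq g y w
    rw [hy, hν, smul_left, smul_right, ← mul_assoc, map_inv₀, h.invol.invol] at this
    exact (mul_eq_right₀ hb2).1 this
  refine hα ?_
  rw [inv_mul_eq_one₀ hα0] at e2
  rw [← e2, mul_comm] at e1
  exact e1

/-- In even characteristic a subgroup of index at most `q ^ 3` meets some Eichler group. -/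
theorem exists_AS_or_WS_ne (hN : H.index ≤ Nat.card (fixedSub σ) ^ 3)
    (heven : Even (Nat.card (fixedSub σ))) (hq3' : 3 ≤ Nat.card (fixedSub σ)) :
    ∃ P : HPair B, Nat.card (P.AS h H) * Nat.card (P.WS h H) ≠ 1 := by
  classical
  by_contra hall
  push Not at hall
  have : Finite V := Module.finite_of_finite F
  have := finite_HSU (B := B)
  have hq := IsInvol.card_ge_two (σ := σ)
  have hq3 : 0 < Nat.card (fixedSub σ) ^ 3 := pow_pos (by omega) _
  have hcard : ∀ P : HPair B, Nat.card (P.scalars H) = Nat.card (fixedSub σ) ^ 2 - 1 := by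
    intro P
    obtain ⟨-, h2⟩ := index_mul h h3 H hN P
    rw [hall P, one_mul] at h2
    refine le_antisymm (card_scalars_le h h3 H P) ?_
    exact Nat.le_of_mul_le_mul_left (h2 ▸ Nat.mul_le_mul_right _ hN) hq3
  have hfull : ∀ P : HPair B, P.scalars H = ⊤ := fun P =>
    Subgroup.eq_top_of_card_eq _ (by rw [hcard P, Nat.card_units, h.invol.card_sq])
  have hstab : ∀ P : HPair B,
      Nat.card (H ⊓ MulAction.stabilizer (HSU B) (isoPoint P.v_ne P.vv) : Subgroup (HSU B)) =
        Nat.card (fixedSub σ) ^ 2 - 1 := fun P => by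
    rw [P.card_stab h H h3, P.card_inf_EU h H, hall P, one_mul, hcard P]
  have hEU : ∀ P : HPair B, ∀ g ∈ H, g ∈ P.EU h → g = 1 := fun P g hg hgE => by
    have h1 : H ⊓ P.EU h = ⊥ := Subgroup.card_eq_one.1 (by rw [P.card_inf_EU h H, hall P])
    exact Subgroup.mem_bot.1 (h1 ▸ ⟨hg, hgE⟩)
  have key : ∀ x : isoPts B, ∃ y : isoPts B, y ≠ x ∧
      (∀ g ∈ H, g • x = x → g • y = y) ∧
      ∀ z, z ≠ x → (∀ g ∈ H, g • x = x → g • z = z) → z = y := by
    intro x
    obtain ⟨P, rfl⟩ := exists_pair_of_point h h3 x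
    obtain ⟨a, ha⟩ := IsCyclic.exists_generator (α := Fˣ)
    obtain ⟨g, hg, hga⟩ : a ∈ P.scalars H := hfull P ▸ Subgroup.mem_top a
    have hgen : (a : F) * σ (a : F) ≠ 1 := by
      intro e
      have h4 := fixed_card_ge h
      have hord : orderOf a = Nat.card F - 1 := by
        rw [orderOf_eq_card_of_forall_mem_zpowers ha, Nat.card_units]
      have h1 : a ^ (Nat.card (fixedSub σ) + 1) = 1 := by
        refine Units.ext ?_
        rw [Units.val_pow_eq_pow_val, pow_succ', ← h.invol.apply_eq_pow, e, Units.val_one]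
      have h2 := Nat.le_of_dvd (by omega) (hord ▸ orderOf_dvd_of_pow_eq_one h1)
      rw [h.invol.card_sq] at h2
      have : 2 * Nat.card (fixedSub σ) ≤ Nat.card (fixedSub σ) ^ 2 := by
        rw [sq]; exact Nat.mul_le_mul_right _ hq
      have : 3 * Nat.card (fixedSub σ) ≤ Nat.card (fixedSub σ) ^ 2 := by
        rw [sq]; exact Nat.mul_le_mul_right _ hq3'
      omega
    obtain ⟨y, hy1, hy2, hy3⟩ := exists_unique_fixed h h3 P hga hgen
    refine ⟨y, hy1, fun k hk hkx => ?_, fun z hz hzfix => ?_⟩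
    · obtain ⟨β, hβ⟩ := (isoPoint_congr P.v_ne P.vv).1 hkx
      have hcomm : k * g = g * k := by
        have hmem : k * g * (g * k)⁻¹ ∈ P.EU h := by
          refine (P.mem_EU_iff h h3).2 ?_
          have e1 : ap (g * k) P.v = ap (k * g) P.v := by
            rw [ap_mul, ap_mul, hβ, hga, LinearEquiv.map_smul, LinearEquiv.map_smul, hga, hβ,
              smul_comm]
          have e2 : ap (g * k)⁻¹ (ap (k * g) P.v) = P.v := by rw [← e1, ap_inv_apply]
          rw [ap_mul]
          have e3 : ap (g * k)⁻¹ P.v = ((a : F) * β)⁻¹ • P.v := by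
            apply (ap (g * k)).injective
            rw [ap_apply_inv, LinearEquiv.map_smul, ap_mul, hβ, LinearEquiv.map_smul, hga,
              smul_smul, smul_smul, mul_assoc, mul_comm β, inv_mul_cancel₀ (mul_ne_zero a.ne_zero
                (HPair.scalar_ne_of_v h hβ)), one_smul]
          rw [e3, LinearEquiv.map_smul, ap_mul, hga, LinearEquiv.map_smul, hβ, smul_smul, smul_smul,
            mul_assoc, inv_mul_cancel₀ (mul_ne_zero a.ne_zero (HPair.scalar_ne_of_v h hβ)), one_smul]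
        exact mul_inv_eq_one.1 (hEU P _ (H.mul_mem (H.mul_mem hk hg) (H.inv_mem (H.mul_mem hg hk))) hmem)
      have hfix : g • k • y = k • y := by rw [← mul_smul, ← hcomm, mul_smul, hy2]
      refine (hy3 _ hfix).resolve_left fun e => hy1 ?_
      rw [← hkx] at e
      exact (smul_left_cancel k e)
    · exact (hy3 z (hzfix g hg ((isoPoint_congr P.v_ne P.vv).2 ⟨_, hga⟩))).resolve_left hz
  choose f hf1 hf2 hf3 using key
  have hinv : ∀ x, f (f x) = x := by
    intro x
    refine (hf3 (f x) x (hf1 x).symm fun g hg hgy => ?_).symm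
    obtain ⟨P, hP⟩ := exists_pair_of_point h h3 x
    obtain ⟨Q, hQ⟩ := exists_pair_of_point h h3 (f x)
    have e1 := hstab P
    have e2 := hstab Q
    rw [hP] at e1
    rw [hQ] at e2
    have heq : H ⊓ MulAction.stabilizer (HSU B) x = H ⊓ MulAction.stabilizer (HSU B) (f x) :=
      Subgroup.eq_of_le_of_card_ge (fun k hk => ⟨hk.1, hf2 x k hk.1 hk.2⟩) (by rw [e1, e2])
    have hmem : g ∈ H ⊓ MulAction.stabilizer (HSU B) (f x) := ⟨hg, hgy⟩
    exact (heq ▸ hmem : g ∈ H ⊓ MulAction.stabilizer (HSU B) x).2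
  have : Finite (isoPts B) := Nat.finite_of_card_ne_zero (by rw [card_isoPts h h3]; omega)
  have : Fintype (isoPts B) := Fintype.ofFinite _
  have h1 := even_card_of_involutive f hinv hf1
  rw [← Nat.card_eq_fintype_card, card_isoPts h h3, Nat.even_add_one, Nat.even_pow] at h1
  exact h1 ⟨heven, by norm_num⟩

/-- In odd characteristic an involution of the subgroup singles out a chord on which it is
transitive, with all its scalars. -/
theorem exists_chord (hN : H.index ≤ Nat.card (fixedSub σ) ^ 3) (h2 : (2 : F) ≠ 0) :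
    ∃ P : HPair B, (∀ x : P.Pts, ∃ g ∈ P.chordStab h H, g • P.centre.1 = x.1) ∧
      P.scalars (P.chordStab h H) = P.scalars H ∧ (-1 : Fˣ) ∈ P.scalars H := by
  classical
  have : Finite V := Module.finite_of_finite F
  have := finite_HSU (B := B)
  have hqodd : Odd (Nat.card (fixedSub σ)) := by
    by_contra hev
    rw [Nat.not_odd_iff_even] at hev
    have : Fintype F := Fintype.ofFinite F
    obtain ⟨p, hpc⟩ := CharP.exists F
    have : Fact p.Prime := ⟨CharP.char_is_prime F p⟩
    obtain ⟨n, -, hn⟩ := FiniteField.card F p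
    have h22 : 2 ∣ p := by
      refine Nat.prime_two.dvd_of_dvd_pow (n := n) ?_
      rw [← hn, ← Nat.card_eq_fintype_card, h.invol.card_sq]
      exact dvd_pow hev.two_dvd two_ne_zero
    have := (Nat.prime_dvd_prime_iff_eq Nat.prime_two Fact.out).1 h22
    subst this
    exact h2 (CharP.cast_eq_zero F 2)
  obtain ⟨u₀, hu₀, huu₀⟩ := h.exists_isotropic (show 2 ≤ Module.finrank F V by omega)
  obtain ⟨P₀, -⟩ := exists_pair_of_point h h3 (isoPoint hu₀ huu₀)
  have heven : 2 ∣ Nat.card H := by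
    rw [(index_mul h h3 H hN P₀).1]
    exact Dvd.dvd.mul_right (even_iff_two_dvd.1 (hqodd.pow.add_one)) _
  obtain ⟨t, ht⟩ := exists_prime_orderOf_dvd_card' (G := H) 2 heven
  have ht2 : (t : HSU B) * t = 1 := by
    have e := congrArg Subtype.val (show t ^ 2 = 1 from ht ▸ pow_orderOf_eq_one t)
    rwa [Subgroup.coe_pow, sq] at e
  have ht1 : (t : HSU B) ≠ 1 := fun e => by
    have : t = 1 := Subtype.ext e
    rw [this, orderOf_one] at ht
    omega
  obtain ⟨w, hw⟩ := h.exists_eq_invol3 (h3 := h3) h2 ht1 ht2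
  have hjH : h.invol3 h3 w ∈ H := hw ▸ t.2
  set j := h.invol3 h3 w with hjdef
  have hnd : ∀ x ∈ h.perp (w : V), (∀ y ∈ h.perp (w : V), B x y = 0) → x = 0 :=
    h.perp_nondeg w.self_ne_zero
  have hrank : Module.finrank F (h.perp (w : V)) = 2 := by
    have := h.finrank_perp (x := (w : V)) w.self_ne_zero
    omega
  obtain ⟨v, hv, hvv⟩ := (h.restrict_herm hnd).exists_isotropic (by omega)
  obtain ⟨f, hvf, hff⟩ := (h.restrict_herm hnd).exists_isotropic_partner hv hvv
  let P : HPair B := ⟨v, f, hvv, hff, hvf⟩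
  have hwv : B (w : V) P.v = 0 := h.mem_perp.1 v.2
  have hwf : B (w : V) P.f = 0 := h.mem_perp.1 f.2
  have hwW : (w : V) ∈ P.W h := P.mem_W (h := h) (h.eq_zero_symm hwv) (h.eq_zero_symm hwf)
  have hjz : ∀ z : V, B (w : V) z = 0 → ap j z = -z := fun z hz => by
    show ((h.invol3 h3 w : HU B) : V ≃ₗ[F] V) z = _
    rw [h.invol3_apply, hz, mul_zero, zero_smul, zero_sub]
  have hjv : ap j P.v = (-1 : F) • P.v := by rw [neg_one_smul]; exact hjz _ hwv
  have hcomm : ∀ g ∈ H, g * j = j * g → g ∈ P.chordStab h H := by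
    intro g hg e
    refine ⟨hg, fun z => ?_⟩
    obtain ⟨e₁, -, hspan⟩ := P.exists_unit h h3
    obtain ⟨s, hs⟩ := hspan ⟨(w : V), hwW⟩
    have hs0 : s ≠ 0 := fun e0 => w.ne_zero (by
      have := congrArg Subtype.val hs
      rw [this, e0, zero_smul, ZeroMemClass.coe_zero])
    obtain ⟨t', ht'⟩ := hspan z
    have hzw : (z : V) = (t' / s) • (w : V) := by
      rw [ht', show (w : V) = ((s • e₁ : P.W h) : V) from congrArg Subtype.val hs,
        Submodule.coe_smul, Submodule.coe_smul, smul_smul, div_mul_cancel₀ _ hs0]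
    rw [hzw, LinearEquiv.map_smul]
    refine (P.W h).smul_mem _ ?_
    have h4 := congrArg (fun k => ap k (w : V)) e
    simp only [ap_mul] at h4
    rw [show ap j (w : V) = (w : V) from h.invol3_self w] at h4
    have h5 : ap j (ap g (w : V)) = (2 * B (w : V) (ap g (w : V))) • (w : V) - ap g (w : V) :=
      h.invol3_apply w _
    rw [← h4] at h5
    have h6 : ap g (w : V) = B (w : V) (ap g (w : V)) • (w : V) := by
      apply smul_right_injective V h2
      show (2 : F) • ap g (w : V) = (2 : F) • (B (w : V) (ap g (w : V)) • (w : V))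
      rw [smul_smul, two_smul F (ap g (w : V))]
      nth_rewrite 2 [h5]
      rw [add_sub_cancel]
    rw [h6]
    exact (P.W h).smul_mem _ hwW
  have hfrat : ∀ g ∈ H, (g⁻¹ * j * g) • isoPoint P.v_ne P.vv = isoPoint P.v_ne P.vv →
      ∃ k ∈ H, ap k P.v = P.v ∧ g * k⁻¹ ∈ P.chordStab h H := by
    intro g hg hfix
    set s := g⁻¹ * j * g
    have hjj : j * j = 1 := h.invol3_mul_self w
    have hss : s * s = 1 := by
      show g⁻¹ * j * g * (g⁻¹ * j * g) = 1
      calc g⁻¹ * j * g * (g⁻¹ * j * g) = g⁻¹ * (j * j) * g := by group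
        _ = 1 := by rw [hjj]; group
    have hs1 : s ≠ 1 := fun e => h.invol3_ne_one (h3 := h3) h2 w (by
      have := congrArg (fun x => g * x * g⁻¹) e
      simpa [s, mul_assoc] using this)
    obtain ⟨α, hα⟩ := (isoPoint_congr P.v_ne P.vv).1 hfix
    have hα2 : α * α = 1 := by
      have e := congrArg (fun x => ap x P.v) hss
      rw [ap_mul, ap_one, hα, LinearEquiv.map_smul, hα, smul_smul] at e
      exact smul_left_injective F P.v_ne (e.trans (one_smul F _).symm)
    have hsE : ∀ x ∈ P.EU h, x * x = 1 → x = 1 := by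
      intro x hx hxx
      have hodd : Odd (Nat.card (P.EU h)) := by
        rw [P.card_EU h (d := 1) h3]
        exact hqodd.pow
      have h1 : orderOf x ∣ 2 := orderOf_dvd_of_pow_eq_one (by rw [sq]; exact hxx)
      rcases (Nat.dvd_prime Nat.prime_two).1 h1 with e | e
      · exact orderOf_eq_one_iff.1 e
      · have h5 := Subgroup.orderOf_dvd_natCard (P.EU h) hx
        rw [e] at h5
        exact absurd hodd (Nat.not_odd_iff_even.2 (even_iff_two_dvd.2 h5))
    have hα1 : α = -1 := by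
      rcases mul_self_eq_one_iff.1 hα2 with e | e
      · refine absurd (hsE s ((P.mem_EU_iff h h3).2 ?_) hss) hs1
        rw [hα, e, one_smul]
      · exact e
    set u := j * s
    have hu : u ∈ P.EU h := (P.mem_EU_iff h h3).2 (by
      show ap (j * s) P.v = P.v
      rw [ap_mul, hα, hα1, neg_one_smul, map_neg, hjv, neg_one_smul, neg_neg])
    have huodd : Odd (orderOf u) := by
      have hodd : Odd (Nat.card (P.EU h)) := by
        rw [P.card_EU h (d := 1) h3]
        exact hqodd.pow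
      exact hodd.of_dvd_nat (Subgroup.orderOf_dvd_natCard (P.EU h) hu)
    obtain ⟨m, hm⟩ := exists_conj_of_inverted hjj (u := u) (by
      show j * (j * s) * j = (j * s)⁻¹
      rw [← mul_assoc, hjj, one_mul, mul_inv_rev, inv_eq_of_mul_eq_one_right hss,
        inv_eq_of_mul_eq_one_right hjj]) huodd
    have hus : j * u = s := by show j * (j * s) = s; rw [← mul_assoc, hjj, one_mul]
    rw [hus] at hm
    have huH : u ∈ H := H.mul_mem hjH (H.mul_mem (H.mul_mem (H.inv_mem hg) hjH) hg)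
    refine ⟨u ^ m, H.pow_mem huH m, (P.mem_EU_iff h h3).1 ((P.EU h).pow_mem hu m),
      hcomm _ (H.mul_mem hg (H.inv_mem (H.pow_mem huH m))) ?_⟩
    calc g * (u ^ m)⁻¹ * j = g * ((u ^ m)⁻¹ * j * u ^ m) * (u ^ m)⁻¹ := by group
      _ = g * s * (u ^ m)⁻¹ := by rw [hm]
      _ = j * (g * (u ^ m)⁻¹) := by simp [s, mul_assoc]
  refine ⟨P, fun x => ?_, le_antisymm ?_ ?_, ⟨j, hjH, by rw [Units.val_neg, Units.val_one]; exact hjv⟩⟩
  · obtain ⟨g, hg, hgx⟩ := exists_mem_map h h3 H hN P.centre.1 x.1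
    have hjx : j • x.1 = x.1 := by
      conv_lhs => rw [show x.1 = isoPoint x.1.1.rep_nonzero x.1.2 from
        Subtype.ext x.1.1.mk_rep.symm]
      conv_rhs => rw [show x.1 = isoPoint x.1.1.rep_nonzero x.1.2 from
        Subtype.ext x.1.1.mk_rep.symm]
      refine (isoPoint_congr _ _).2 ⟨-1, ?_⟩
      rw [neg_one_smul]
      refine hjz _ ?_
      exact (P.mem_plane_iff h).1 x.2 ⟨_, hwW⟩
    obtain ⟨k, hk, hkv, hmem⟩ := hfrat g hg (by
      show (g⁻¹ * j * g) • P.centre.1 = P.centre.1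
      rw [mul_smul, mul_smul, hgx, hjx, inv_smul_eq_iff, hgx])
    refine ⟨g * k⁻¹, hmem, ?_⟩
    rw [mul_smul, show k⁻¹ • P.centre.1 = P.centre.1 from ?_, hgx]
    rw [inv_smul_eq_iff]
    exact (smul_isoPoint P.v_ne P.vv P.v_ne P.vv hkv).symm
  · rintro a ⟨g, hg, e⟩
    exact ⟨g, hg.1, e⟩
  · rintro a ⟨g, hg, e⟩
    have hfix : (g⁻¹ * j * g) • isoPoint P.v_ne P.vv = isoPoint P.v_ne P.vv := by
      refine (isoPoint_congr _ _).2 ⟨(-1 : F), ?_⟩
      apply (ap g).injective
      rw [ap_mul, ap_mul, ap_apply_inv, e, LinearEquiv.map_smul, LinearEquiv.map_smul, hjv, e,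
        smul_comm]
    obtain ⟨k, hk, hkv, hmem⟩ := hfrat g hg hfix
    refine ⟨g * k⁻¹, hmem, ?_⟩
    rw [ap_mul, show ap k⁻¹ P.v = P.v by conv_lhs => rw [← hkv, ap_inv_apply], e]

end CfsgLib.LocalEvenB.MinIndexSU
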