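import Cfsg.Agent.Lib.LocalEvenB.MinIndexSU.ThreeIndex.ChordCases
import Cfsg.Agent.Lib.LocalEvenB.MinIndexSU.ThreeIndex.Parity

/-!
The arithmetic of a subgroup of index at most `q ^ 3`.
-/

set_option autoImplicit false

namespace CfsgLib.LocalEvenB.MinIndexSU

open CfsgLib.Classical CfsgLib.Classical.Herm

theorem gcd_two_mul_sub_one_dvd {q c : ℕ} (hq : 1 ≤ q) (hc : c ∣ q ^ 2 - 1) :
    Nat.gcd c (2 * q - 1) ∣ 3 := by
  obtain ⟨r, rfl⟩ : ∃ r, q = r + 1 := ⟨q - 1, by omega⟩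
  have h1 : Nat.gcd c (2 * (r + 1) - 1) ∣ 4 * ((r + 1) ^ 2 - 1) :=
    ((Nat.gcd_dvd_left _ _).trans hc).mul_left 4
  have e : (r + 1) ^ 2 - 1 = r * r + 2 * r := by
    have : (r + 1) ^ 2 = r * r + 2 * r + 1 := by ring
    omega
  have h2 : Nat.gcd c (2 * (r + 1) - 1) ∣ (2 * r + 1) * (2 * r + 3) :=
    ((Nat.gcd_dvd_right _ _).trans (by rw [show 2 * (r + 1) - 1 = 2 * r + 1 by omega])).mul_right _
  rw [e] at h1
  rw [show (2 * r + 1) * (2 * r + 3) = 4 * (r * r + 2 * r) + 3 by ring] at h2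
  exact (Nat.dvd_add_right h1).1 h2

/-- Arithmetic without transvections. -/
theorem pure_arith {q p j w c m2 c2 g3 g6 : ℕ} (hp : p.Prime) (hp2 : 3 ≤ p) (hq : q = p ^ j)
    (hq3 : 3 ≤ q) (hw : ∃ i, w = p ^ i) (hw1 : w ≠ 1) (hwq : w ≤ q) (hc : c ∣ q ^ 2 - 1)
    (hce : 2 ∣ c) (hm : m2 * g3 = c) (hg3 : g3 = Nat.gcd c (2 * q - 1)) (hmq : m2 ∣ q - 1)
    (hmw : m2 ∣ w - 1) (hcc : c2 * g6 = c) (hg6 : g6 = Nat.gcd c (q + 1))
    (hsc : q ^ 2 - 1 ≤ w * c)
    (hcase : c2 ≤ 2 ∨ ∃ M ∈ ({12, 24, 60} : Finset ℕ), (q + 1) * c2 ∣ M) :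
    w = q ∧ ((q = 5 ∧ c ≤ 12) ∨ (q = 11 ∧ c = 30)) := by
  obtain ⟨i, hi⟩ := hw
  have hc2 : c2 ≤ 2 ∨ (q + 1) * c2 ≤ 60 := by
    rcases hcase with h | ⟨M, hM, hdvd⟩
    · exact Or.inl h
    · simp only [Finset.mem_insert, Finset.mem_singleton] at hM
      exact Or.inr ((Nat.le_of_dvd (by omega) hdvd).trans (by omega))
  clear hcase
  have hg3' : g3 ≤ 3 := Nat.le_of_dvd (by norm_num) (hg3 ▸ gcd_two_mul_sub_one_dvd (by omega) hc)
  have hq2 : 9 ≤ q ^ 2 := Nat.pow_le_pow_left hq3 2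
  have hm2w : m2 ≤ w - 1 := Nat.le_of_dvd (by
    have : 0 < w := hi ▸ pow_pos hp.pos _
    omega) hmw
  have hc3 : c ≤ (w - 1) * 3 := hm ▸ Nat.mul_le_mul hm2w hg3'
  have hwe : w = q := by
    by_contra hne
    have hij : i + 1 ≤ j := (Nat.pow_lt_pow_iff_right hp.one_lt).1 (by
      rw [← hi, ← hq]; omega)
    have h3w : 3 * w ≤ q := by
      rw [hi, hq]
      calc 3 * p ^ i ≤ p * p ^ i := Nat.mul_le_mul_right _ hp2
        _ = p ^ (i + 1) := (pow_succ' p i).symm
        _ ≤ p ^ j := Nat.pow_le_pow_right hp.pos hij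
    have h1 := hsc.trans (Nat.mul_le_mul_left w hc3)
    have h2 : (w - 1) * 3 ≤ q := by omega
    have h3 := Nat.mul_le_mul_left w h2
    have h4 := Nat.mul_le_mul_right q h3w
    rw [mul_assoc] at h4
    rw [sq] at h1 hq2
    omega
  subst hwe
  refine ⟨rfl, ?_⟩
  have hcq : w ≤ c := by
    by_contra hlt
    have := hsc.trans (Nat.mul_le_mul_left w (show c ≤ w - 1 by omega))
    obtain ⟨r, rfl⟩ : ∃ r, w = r + 1 := ⟨w - 1, by omega⟩
    have e : (r + 1) ^ 2 = (r + 1) * (r + 1 - 1) + (r + 1) := by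
      rw [Nat.add_sub_cancel]; ring
    omega
  have hg33 : g3 = 3 := by
    have hd : g3 ∣ 3 := hg3 ▸ gcd_two_mul_sub_one_dvd (by omega) hc
    rcases (Nat.dvd_prime Nat.prime_three).1 hd with e | e
    · rw [e, mul_one] at hm
      omega
    · exact e
  subst hg33
  have hmod : w % 3 = 2 := by
    have : 3 ∣ 2 * w - 1 := hg3 ▸ Nat.gcd_dvd_right _ _
    omega
  have hg6' : g6 ≤ 6 := by
    refine Nat.le_of_dvd (by norm_num) ?_
    have h1 : g6 ∣ 3 * (w - 1) := (hg6 ▸ Nat.gcd_dvd_left _ _ : g6 ∣ c).trans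
      (hm ▸ (by rw [mul_comm m2 3]; exact Nat.mul_dvd_mul_left 3 hmq))
    have h2 : g6 ∣ 3 * (w + 1) := (hg6 ▸ Nat.gcd_dvd_right _ _ : g6 ∣ w + 1).mul_left 3
    have h3 := Nat.dvd_sub h2 h1
    rwa [show 3 * (w + 1) - 3 * (w - 1) = 6 by omega] at h3
  have hc6 : c ≤ c2 * 6 := hcc ▸ Nat.mul_le_mul_left c2 hg6'
  have hodd : w % 2 = 1 := by
    rw [hq]
    exact Nat.odd_iff.1 ((hp.odd_of_ne_two (by omega)).pow)
  have hbound : w ≤ 18 := by
    rcases hc2 with h | h1
    · omega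
    · by_contra hlt
      have h2 : 20 * c2 ≤ (w + 1) * c2 := Nat.mul_le_mul_right c2 (by omega)
      omega
  have hm2 : m2 ≤ w - 1 := hm2w
  interval_cases w
  all_goals first
    | omega
    | (interval_cases m2 <;> omega)

/-- Arithmetic with one non-trivial transvection at each point, in characteristic two. -/
theorem two_arith {q j w c m2 g3 : ℕ} (hq : q = 2 ^ j) (hq4 : 4 ≤ q) (hw : ∃ i, w = 2 ^ i)
    (hw4 : w ≤ 4) (hcq : c ∣ q + 1) (hm : m2 * g3 = c)
    (hg3 : g3 = Nat.gcd c (2 * q - 1)) (hmw : m2 ∣ w - 1) (hsc : q ^ 2 - 1 ≤ 2 * w * c) :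
    q = 8 ∧ w = 4 ∧ c = 9 := by
  have hcle := Nat.le_of_dvd (by omega) hcq
  have hq9 : q ≤ 9 := by
    by_contra hlt
    have h5 : 10 * q ≤ q ^ 2 := by rw [sq]; exact Nat.mul_le_mul_right _ (by omega)
    have h6 := hsc.trans (Nat.mul_le_mul (Nat.mul_le_mul_left 2 hw4) hcle)
    omega
  obtain ⟨i, rfl⟩ := hw
  have hj4 : j < 4 := by
    by_contra hlt
    have := Nat.pow_le_pow_right two_pos (show 4 ≤ j by omega)
    omega
  have hi3 : i < 3 := by
    by_contra hlt
    have := Nat.pow_le_pow_right two_pos (show 3 ≤ i by omega)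
    omega
  have hc10 : c ≤ 10 := by omega
  subst hq hg3
  interval_cases j <;> interval_cases i
  all_goals first
    | omega
    | (interval_cases c <;>
        first
          | omega
          | (norm_num at hcq; done)
          | (norm_num at hm; subst hm; norm_num at hmw; done))

/-- Arithmetic with transvection groups of order three, over the field with 81 elements. -/
theorem nine_arith {w c m1 m2 : ℕ} (hw : ∃ i, w = 3 ^ i) (hw27 : w < 27) (hm1 : m1 ∣ 2)
    (h1 : m1 * Nat.gcd c 10 = c) (hcd : c ∣ 80) (h2 : m2 * Nat.gcd c 17 = c) (hm2 : m2 ∣ w - 1)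
    (hsc : 80 ≤ 3 * w * c) : w = 9 ∧ c = 4 := by
  have hc20 : c ∣ 20 := by
    rw [← h1]
    exact Nat.mul_dvd_mul hm1 (Nat.gcd_dvd_right c 10)
  have hg17 : Nat.gcd c 17 = 1 :=
    Nat.dvd_one.1 (show Nat.gcd c 17 ∣ Nat.gcd 80 17 from Nat.gcd_dvd_gcd_of_dvd_left _ hcd)
  rw [hg17, mul_one] at h2
  subst h2
  have hcle := Nat.le_of_dvd (by norm_num) hc20
  obtain ⟨i, rfl⟩ := hw
  have hi3 : i < 3 := by
    by_contra hlt
    have := Nat.pow_le_pow_right (show 0 < 3 by norm_num) (show 3 ≤ i by omega)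
    omega
  interval_cases i <;> norm_num at hm2 hsc ⊢
  · omega
  · have := Nat.le_of_dvd (by norm_num) hm2
    omega
  · have h8 := Nat.le_of_dvd (by norm_num) hm2
    interval_cases m2 <;> first | rfl | omega | (norm_num at hm2; done) | (norm_num at hc20; done)

variable {F : Type*} [Field F] {V : Type*} [AddCommGroup V] [Module F V] {σ : F →+* F}
  {B : V →ₛₗ[σ] V →ₗ[F] F} [Finite F] [FiniteDimensional F V] (h : IsHerm B)
  (h3 : Module.finrank F V = 3)
include h h3

/-- The possible subgroups of index at most `q ^ 3`: four candidates, and a bound over five. -/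
theorem cases_of_index (hq3 : 3 ≤ Nat.card (fixedSub σ)) (H : Subgroup (HSU B)) (hH : H ≠ ⊤)
    (hN : H.index ≤ Nat.card (fixedSub σ) ^ 3) :
    (Nat.card (fixedSub σ) = 5 ∧ 50 ≤ H.index) ∨
    ∃ (P : HPair B) (s c : ℕ), s = Nat.card (P.AS h H) * Nat.card (P.WS h H) ∧
      c = Nat.card (P.scalars H) ∧ Nat.card H = (Nat.card (fixedSub σ) ^ 3 + 1) * (s * c) ∧
      ((Nat.card (fixedSub σ) = 3 ∧ s = 1 ∧ c = 8) ∨ (Nat.card (fixedSub σ) = 8 ∧ s = 8 ∧ c = 9) ∨
        (Nat.card (fixedSub σ) = 9 ∧ s = 27 ∧ c = 4) ∨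
        (Nat.card (fixedSub σ) = 11 ∧ s = 11 ∧ c = 30)) := by
  classical
  have : Finite V := Module.finite_of_finite F
  obtain ⟨p, hpc⟩ := CharP.exists F
  have : Fact p.Prime := ⟨CharP.char_is_prime F p⟩
  have hp := (Fact.out : p.Prime)
  obtain ⟨u₀, hu₀, huu₀⟩ := h.exists_isotropic (show 2 ≤ Module.finrank F V by omega)
  obtain ⟨P₀, -⟩ := exists_pair_of_point h h3 (isoPoint hu₀ huu₀)
  obtain ⟨q, hq⟩ : ∃ q, Nat.card (fixedSub σ) = q := ⟨_, rfl⟩
  obtain ⟨n, hn0, hn⟩ : ∃ n, 0 < n ∧ Nat.card F = p ^ n := by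
    have : Fintype F := Fintype.ofFinite F
    obtain ⟨n, -, hn⟩ := FiniteField.card F p
    exact ⟨n, n.pos, by rw [Nat.card_eq_fintype_card, hn]⟩
  obtain ⟨j, hj⟩ : ∃ j, q = p ^ j := by
    obtain ⟨j, -, hj⟩ := (Nat.dvd_prime_pow hp).1 (show q ∣ p ^ n by
      rw [← hn, h.invol.card_sq, hq]; exact dvd_pow_self _ two_ne_zero)
    exact ⟨j, hj⟩
  have hWd : ∀ P : HPair B, ∃ i, Nat.card (P.WS h H) = p ^ i := fun P => by
    have h1 := AddSubgroup.card_addSubgroup_dvd_card (P.WS h H)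
    rw [Module.natCard_eq_pow_finrank (K := F) (V := P.W h), P.finrank_W_one h h3, pow_one, hn] at h1
    obtain ⟨i, -, hi⟩ := (Nat.dvd_prime_pow hp).1 h1
    exact ⟨i, hi⟩
  have hAd : ∀ P : HPair B, Nat.card (P.AS h H) ∣ q := fun P => by
    rw [← hq, ← card_skew h]
    exact AddSubgroup.card_dvd_of_le (P.AS_le h H)
  have hdata : ∀ P : HPair B,
      Nat.card H = (q ^ 3 + 1) *
        (Nat.card (P.AS h H) * Nat.card (P.WS h H) * Nat.card (P.scalars H)) ∧
      H.index * (Nat.card (P.AS h H) * Nat.card (P.WS h H) * Nat.card (P.scalars H)) =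
        q ^ 3 * (q ^ 2 - 1) ∧
      q ^ 2 - 1 ≤ Nat.card (P.AS h H) * Nat.card (P.WS h H) * Nat.card (P.scalars H) ∧
      Nat.card (P.scalars H) ∣ q ^ 2 - 1 := fun P => by
    obtain ⟨h1, h2⟩ := index_mul h h3 H hN P
    rw [hq] at h1 h2 hN
    refine ⟨h1, h2, ?_, hq ▸ P.card_scalars_dvd h H h3⟩
    refine Nat.le_of_mul_le_mul_left ?_ (pow_pos (show 0 < q by omega) 3)
    rw [← h2]
    exact Nat.mul_le_mul_right _ hN
  set a := Nat.card (P₀.AS h H) with ha
  have hA : ∀ P : HPair B, Nat.card (P.AS h H) = a := fun P => card_AS_eq h h3 H hN P P₀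
  have haq : a ≤ q := Nat.le_of_dvd (by omega) (hAd P₀)
  rcases Nat.lt_or_ge a 2 with ha2 | ha2
  · -- no transvections
    have ha1 : a = 1 := by
      have : 0 < a := Nat.card_pos
      omega
    have hbot : ∀ P : HPair B, P.AS h H = ⊥ := fun P =>
      AddSubgroup.card_eq_one.1 ((hA P).trans ha1)
    by_cases h2 : (2 : F) = 0
    · exfalso
      have heven : Even (Nat.card (fixedSub σ)) := by
        have hp2 : p = 2 := ((Nat.prime_dvd_prime_iff_eq hp Nat.prime_two).1
          ((CharP.cast_eq_zero_iff F p 2).1 (by exact_mod_cast h2)))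
        subst hp2
        rw [hq, hj, even_iff_two_dvd]
        exact dvd_pow_self _ fun e => by rw [e, pow_zero] at hj; omega
      obtain ⟨P, hP⟩ := exists_AS_or_WS_ne h h3 H hN heven hq3
      refine hP ?_
      rw [hA, ha1, one_mul]
      refine Nat.card_eq_one_iff_unique.2 ⟨⟨fun x y => ?_⟩, inferInstance⟩
      have hz : ∀ w ∈ P.WS h H, w = 0 := fun w hw => by
        have hs := P.square_AS h H h2 hw
        rw [hbot P, AddSubgroup.mem_bot] at hs
        obtain ⟨e, hee, hspan⟩ := P.exists_unit h h3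
        obtain ⟨t, rfl⟩ := hspan w
        rw [Submodule.coe_smul, IsHerm.smul_self, hee, mul_one] at hs
        have ht : t = 0 := (mul_eq_zero.1 hs).elim id fun e' => IsInvol.apply_eq_zero_iff.1 e'
        rw [ht, zero_smul]
      exact Subtype.ext ((hz _ x.2).trans (hz _ y.2).symm)
    obtain ⟨P, htr, hsc, hneg⟩ := exists_chord h h3 H hN h2
    have hcase := P.pure_cases h h3 H hbot htr
    rw [hsc, hq] at hcase
    obtain ⟨hH', hI, hsc', hcd⟩ := hdata P
    have hwline := P.WS_line_card h H h3 (hbot P)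
    have hmw := P.card_scalars_WS h H h3
    have e2 := card_map_pow (P.scalars H) (q + 1)
    have e3 := card_map_pow (P.scalars H) (2 * q - 1)
    rw [hq] at hwline hmw
    rw [hA, ha1, one_mul] at hH' hI hsc'
    set w := Nat.card (P.WS h H) with hw
    set c := Nat.card (P.scalars H) with hc
    have hce : 2 ∣ c := by
      have h1 : orderOf (⟨-1, hneg⟩ : P.scalars H) = 2 := by
        refine orderOf_eq_prime (by rw [sq]; exact Subtype.ext (by simp)) fun e => h2 ?_
        have e' := congrArg (fun z : P.scalars H => ((z : Fˣ) : F)) e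
        simp at e'
        linear_combination -e'
      exact h1 ▸ orderOf_dvd_natCard _
    have hp3 : 3 ≤ p := by
      have := hp.two_le
      by_contra hlt
      have : p = 2 := by omega
      subst this
      exact h2 (CharP.cast_eq_zero F 2)
    rcases eq_or_ne w 1 with hw1 | hw1
    · rw [hw1, one_mul] at hH' hI hsc'
      have hceq : c = q ^ 2 - 1 := le_antisymm (Nat.le_of_dvd (by
        have := Nat.pow_le_pow_left hq3 2
        rw [hq] at this
        omega) hcd) hsc'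
      have hg : Nat.gcd c (q + 1) = q + 1 := by
        rw [Nat.gcd_eq_right_iff_dvd, hceq, show q ^ 2 - 1 = (q + 1) * (q - 1) by
          rw [← Nat.sq_sub_sq q 1, one_pow]]
        exact Dvd.intro _ rfl
      rw [hg] at e2
      set c2 := Nat.card ((P.scalars H).map (powMonoidHom (q + 1)))
      have hc2 : c2 = q - 1 := by
        refine Nat.eq_of_mul_eq_mul_right (show 0 < q + 1 by omega) ?_
        rw [e2, hceq, show q ^ 2 - 1 = (q + 1) * (q - 1) by rw [← Nat.sq_sub_sq q 1, one_pow],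
          mul_comm]
      rw [hc2] at hcase
      have hq7 : q ≤ 7 := by
        rcases hcase with h1 | ⟨M, hM, hd⟩
        · omega
        · simp only [Finset.mem_insert, Finset.mem_singleton] at hM
          have h1 := Nat.le_of_dvd (by omega) hd
          by_contra hlt
          have h5 : 9 * 7 ≤ (q + 1) * (q - 1) := Nat.mul_le_mul (by omega) (by omega)
          omega
      have hodd : q % 2 = 1 := by
        rw [hj]
        exact Nat.odd_iff.1 ((hp.odd_of_ne_two (by omega)).pow)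
      have hq3' : 3 ≤ q := hq ▸ hq3
      interval_cases q
      · exact Or.inr ⟨P, 1, 8, by rw [hA, ha1, one_mul]; exact hw1.symm, hceq.symm.trans rfl,
          by rw [hH', hceq, hq]; rfl, Or.inl ⟨hq, rfl, rfl⟩⟩
      · omega
      · refine Or.inl ⟨hq, ?_⟩
        rw [hceq] at hI
        omega
      · omega
      · rcases hcase with h1 | ⟨M, hM, hd⟩
        · omega
        · simp only [Finset.mem_insert, Finset.mem_singleton] at hM
          rcases hM with rfl | rfl | rfl <;> norm_num at hd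
    · have hwi := hWd P
      obtain ⟨hwq, hcases⟩ := pure_arith hp hp3 hj (hq ▸ hq3) hwi hw1 hwline.1 hcd hce e3 rfl
        (hwline.2 hw1) hmw e2 rfl hsc' hcase
      rcases hcases with ⟨h5, h12⟩ | ⟨h11, h30⟩
      · refine Or.inl ⟨hq.trans h5, ?_⟩
        rw [show w = 5 from hwq.trans h5, h5] at hI
        by_contra hlt
        have := Nat.mul_le_mul (show H.index ≤ 49 by omega) (Nat.mul_le_mul_left 5 h12)
        omega
      · exact Or.inr ⟨P, 11, 30, by rw [hA, ha1, one_mul]; exact (hwq.trans h11).symm, h30.symm,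
          by rw [hH', show w = 11 from hwq.trans h11, h30, hq, h11], Or.inr (Or.inr (Or.inr ⟨hq.trans h11, rfl, rfl⟩))⟩
  rcases Nat.lt_or_ge a q with haq' | haq'
  swap
  · exact absurd (eq_top_of_full h h3 H (by omega) fun P => (hA P).trans (by omega)) hH
  obtain ⟨hH', hI, hsc', hcd⟩ := hdata P₀
  have hmA := P₀.card_scalars_AS h H h3
  have hmW := P₀.card_scalars_WS h H h3
  have e2 := card_map_pow (P₀.scalars H) (q + 1)
  have e3 := card_map_pow (P₀.scalars H) (2 * q - 1)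
  rw [hq] at hmA hmW
  rw [← ha] at hmA hH' hI hsc'
  set w := Nat.card (P₀.WS h H) with hw
  set c := Nat.card (P₀.scalars H) with hc
  have hwpos : 0 < w := Nat.card_pos
  rcases P₀.transvection_cases h h3 H p hA ha2 (by rw [hq]; exact haq') with ⟨hp2, ha2'⟩ | ⟨hq9, ha3⟩
  · subst hp2
    have h2 : (2 : F) = 0 := CharP.cast_eq_zero F 2
    rw [ha2'] at hmA hH' hI hsc' haq'
    obtain ⟨t, ht⟩ : ∃ t, ∀ x ∈ P₀.AS h H, x = 0 ∨ x = t := by
      obtain ⟨x, y, hxy, huniv⟩ := Nat.card_eq_two_iff.1 (show Nat.card (P₀.AS h H) = 2 by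
        rw [hA]; exact ha2')
      by_cases hx : (x : F) = 0
      · refine ⟨y, fun z hz => ?_⟩
        have := huniv.ge (Set.mem_univ (⟨z, hz⟩ : P₀.AS h H))
        rcases this with e | e
        · exact Or.inl ((congrArg Subtype.val e).trans hx)
        · exact Or.inr (congrArg Subtype.val e)
      · refine ⟨x, fun z hz => ?_⟩
        have hz' := huniv.ge (Set.mem_univ (⟨z, hz⟩ : P₀.AS h H))
        have h0 := huniv.ge (Set.mem_univ (0 : P₀.AS h H))
        rcases h0 with e0 | e0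
        · exact absurd (congrArg Subtype.val e0).symm hx
        rcases hz' with e | e
        · exact Or.inr (congrArg Subtype.val e)
        · exact Or.inl ((congrArg Subtype.val e).trans (congrArg Subtype.val e0).symm)
    have hw4 : w ≤ 4 := P₀.card_WS_le_four h H h3 h2 ht
    have hc1 : Nat.gcd c (q + 1) = c := by
      rw [Nat.dvd_one.1 hmA, one_mul] at e2
      exact e2
    have hcq : c ∣ q + 1 := Nat.gcd_eq_left_iff_dvd.1 hc1
    have hq4 : 4 ≤ q := by
      rw [hj] at haq' ⊢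
      have h2j : 1 < j := (Nat.pow_lt_pow_iff_right (show 1 < 2 by norm_num)).1 (by rwa [pow_one])
      exact le_trans (show 4 ≤ 2 ^ 2 by norm_num) (Nat.pow_le_pow_right two_pos h2j)
    obtain ⟨hq8, hw4', hc9⟩ := two_arith hj hq4 (hWd P₀) hw4 hcq e3 rfl hmW hsc'
    refine Or.inr ⟨P₀, 8, 9, ?_, hc9.symm, ?_, Or.inr (Or.inl ⟨hq.trans hq8, rfl, rfl⟩)⟩
    · rw [← ha, ha2']
      omega
    · rw [hH', show w = 4 from hw4', hc9, hq]
  · rw [hq] at hq9
    rw [ha3] at hmA hH' hI hsc'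
    have hp3 : p = 3 := by
      refine ((Nat.prime_dvd_prime_iff_eq hp Nat.prime_three).1 (hp.dvd_of_dvd_pow (n := 2) ?_))
      rw [show 3 ^ 2 = q by rw [hq9]; rfl, hj]
      exact dvd_pow_self _ fun e => by rw [e, pow_zero] at hj; omega
    subst hp3
    have hwlt : w < 27 := by
      have h1 : Nat.card (P₀.WS h H) < Nat.card (P₀.AS h H) * Nat.card (fixedSub σ) :=
        P₀.card_WS_lt h H h3 (by rw [hA]; omega) (by rw [hA]; omega)
      rw [hA] at h1
      rw [ha3, hq, hq9] at h1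
      exact h1
    subst hq9
    obtain ⟨hw9, hc4⟩ := nine_arith (hWd P₀) hwlt (by simpa using hmA) e2 (by simpa using hcd) e3 hmW
      (by simpa using hsc')
    refine Or.inr ⟨P₀, 27, 4, ?_, hc4.symm, ?_, Or.inr (Or.inr (Or.inl ⟨hq, rfl, rfl⟩))⟩
    · rw [← ha, ha3]
      omega
    · rw [hH', show w = 9 from hw9, hc4, hq]

end CfsgLib.LocalEvenB.MinIndexSU
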