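import Cfsg.Agent.Lib.LocalEvenB.MinIndexSU.ThreeIndex.Mark
import Cfsg.Agent.Lib.Classical.Dickson.Structure
import Mathlib.FieldTheory.IsAlgClosed.AlgebraicClosure

/-!
The action of the stabiliser of a chord on the projective line.
-/

set_option autoImplicit false

namespace CfsgLib.LocalEvenB.MinIndexSU

open CfsgLib.Classical CfsgLib.Classical.Herm
open Matrix

variable {F : Type*} [Field F] {V : Type*} [AddCommGroup V] [Module F V] {σ : F →+* F}
  {B : V →ₛₗ[σ] V →ₗ[F] F} [Finite F] [FiniteDimensional F V] (h : IsHerm B)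

namespace HPair

variable (P : HPair B) (H : Subgroup (HSU B))

theorem mem_plane_iff {y : V} : y ∈ P.plane ↔ ∀ w : P.W h, B (w : V) y = 0 := by
  refine ⟨fun hy w => h.eq_zero_symm (h.mem_orth.1 w.2 y hy), fun hy => ?_⟩
  obtain ⟨w, hw⟩ := P.decomp (h := h) y
  have hww : ∀ z : P.W h, B (z : V) (w : V) = 0 := fun z => by
    have := hy z
    rw [hw, map_add, map_add, smul_right, smul_right, P.wv z, P.wf z] at this
    simpa using this
  have h0 : (w : V) = 0 := h.orth_nondeg (P.nondeg h) _ w.2
    (fun z hz => h.eq_zero_symm (hww ⟨z, hz⟩))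
  rw [h0, add_zero] at hw
  rw [hw]
  exact P.plane.add_mem (P.plane.smul_mem _ P.v_mem) (P.plane.smul_mem _ P.f_mem)

include h in
theorem plane_decomp {y : V} (hy : y ∈ P.plane) : y = B P.f y • P.v + B P.v y • P.f := by
  obtain ⟨r, s, rfl⟩ := Submodule.mem_span_pair.1 hy
  simp [smul_right, P.vv, P.vf, P.ff, P.fv h]

theorem map_W_mem {g : HSU B} (hg : ∀ w : P.W h, ap g w ∈ P.W h) (w : P.W h) :
    ap g⁻¹ (w : V) ∈ P.W h := by
  have : Finite (P.W h) := Module.finite_of_finite F
  obtain ⟨y, hy⟩ := (Finite.surjective_of_injective (f := fun w : P.W h => (⟨_, hg w⟩ : P.W h))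
    fun a b e => Subtype.ext ((ap g).injective (congrArg Subtype.val e))) w
  rw [← congrArg Subtype.val hy]
  show ap g⁻¹ (ap g (y : V)) ∈ P.W h
  rw [ap_inv_apply]
  exact y.2

/-- The stabiliser of the chord in the subgroup. -/
def chordStab : Subgroup (HSU B) where
  carrier := {g | g ∈ H ∧ ∀ w : P.W h, ap g w ∈ P.W h}
  mul_mem' := by
    rintro g k ⟨hg, hg'⟩ ⟨hk, hk'⟩
    exact ⟨H.mul_mem hg hk, fun w => by rw [ap_mul]; exact hg' ⟨_, hk' w⟩⟩
  one_mem' := ⟨H.one_mem, fun w => by rw [ap_one]; exact w.2⟩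
  inv_mem' := by
    rintro g ⟨hg, hg'⟩
    exact ⟨H.inv_mem hg, P.map_W_mem h hg'⟩

theorem chordStab_le : P.chordStab h H ≤ H := fun _ hg => hg.1

theorem chordStab_plane {g : HSU B} (hg : g ∈ P.chordStab h H) {y : V} (hy : y ∈ P.plane) :
    ap g y ∈ P.plane := by
  refine (P.mem_plane_iff h).2 fun w => ?_
  rw [← ap_apply_inv g (w : V), ap_eq]
  exact (P.mem_plane_iff h).1 hy ⟨_, P.map_W_mem h hg.2 w⟩

/-- The matrix of an element on the chord. -/
def mat (g : HSU B) : Matrix (Fin 2) (Fin 2) F :=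
  !![B P.f (ap g P.v), B P.f (ap g P.f); B P.v (ap g P.v), B P.v (ap g P.f)]

/-- The coordinates of a vector of the chord. -/
def crd (y : V) : Fin 2 → F := ![B P.f y, B P.v y]

include h in
theorem crd_eq_zero {y : V} (hy : y ∈ P.plane) (e : P.crd y = 0) : y = 0 := by
  have e0 : B P.f y = 0 := congrFun e 0
  have e1 : B P.v y = 0 := congrFun e 1
  rw [P.plane_decomp h hy, e0, e1, zero_smul, zero_smul, add_zero]

include h in
theorem mat_mulVec {g : HSU B} {y : V} (hy : y ∈ P.plane) :
    P.mat g *ᵥ P.crd y = P.crd (ap g y) := by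
  conv_rhs => rw [P.plane_decomp h hy]
  ext i
  fin_cases i <;> simp [mat, crd, Matrix.mulVec, dotProduct, smul_right] <;> ring

/-- The chord representation over an algebraic closure. -/
noncomputable def matHom : P.chordStab h H →* Matrix (Fin 2) (Fin 2) (AlgebraicClosure F) :=
  ((algebraMap F (AlgebraicClosure F)).mapMatrix.toMonoidHom).comp
    { toFun := fun g => P.mat g
      map_one' := by
        ext i j
        fin_cases i <;> fin_cases j <;>
          simp [mat, ap_one, P.vv, P.vf, P.ff, P.fv h]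
      map_mul' := fun g k => by
        have hexp : ∀ y ∈ P.plane, ∀ z : V, B z (ap (g : HSU B) y) =
            B P.f y * B z (ap (g : HSU B) P.v) + B P.v y * B z (ap (g : HSU B) P.f) := by
          intro y hy z
          conv_lhs => rw [P.plane_decomp h hy]
          simp [smul_right]
        have hv := P.chordStab_plane h H k.2 P.v_mem
        have hf := P.chordStab_plane h H k.2 P.f_mem
        ext i j
        fin_cases i <;> fin_cases j <;>
          simp [mat, ap_mul, Matrix.mul_apply, Fin.sum_univ_two, hexp _ hv, hexp _ hf] <;> ring }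

/-- The action on the projective line over an algebraic closure. -/
noncomputable def toMob : P.chordStab h H →* Dickson.Mob (AlgebraicClosure F) :=
  ProjGenLinGroup.mk.comp (P.matHom h H).toHomUnits

/-- The isotropic points of the chord. -/
abbrev Pts : Type _ := {x : isoPts B // x.1.rep ∈ P.plane}

include h in
theorem crd_rep_ne (x : P.Pts) : (algebraMap F (AlgebraicClosure F)) ∘ P.crd x.1.1.rep ≠ 0 :=
  fun e => x.1.1.rep_nonzero (P.crd_eq_zero h x.2 (funext fun i => by
    have := congrFun e i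
    simpa using this))

/-- A point of the chord as a point of the projective line. -/
noncomputable def toPt (x : P.Pts) : Dickson.Pt (AlgebraicClosure F) :=
  Projectivization.mk _ _ (P.crd_rep_ne h x)

theorem toPt_injective : Function.Injective (P.toPt h) := by
  intro x y e
  rw [toPt, toPt, Projectivization.mk_eq_mk_iff'] at e
  obtain ⟨a, ha⟩ := e
  have hx := P.plane_decomp h x.2
  have hy := P.plane_decomp h y.2
  obtain ⟨b, rfl⟩ : ∃ b : F, algebraMap F (AlgebraicClosure F) b = a := by
    by_contra hn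
    push Not at hn
    have : ∀ i, P.crd y.1.1.rep i = 0 := fun i => by
      by_contra hi
      refine hn (P.crd x.1.1.rep i / P.crd y.1.1.rep i) ?_
      have hi' := congrFun ha i
      simp only [Pi.smul_apply, Function.comp_apply, smul_eq_mul] at hi'
      rw [map_div₀, ← hi', mul_div_cancel_right₀ _ (by simpa using hi)]
    exact y.1.1.rep_nonzero (P.crd_eq_zero h y.2 (funext this))
  have hcrd : ∀ i, P.crd x.1.1.rep i = b * P.crd y.1.1.rep i := fun i => by
    have hi' := congrFun ha i
    simp only [Pi.smul_apply, Function.comp_apply, smul_eq_mul, ← map_mul] at hi'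
    exact ((algebraMap F (AlgebraicClosure F)).injective hi').symm
  refine Subtype.ext (Subtype.ext ?_)
  rw [← x.1.1.mk_rep, ← y.1.1.mk_rep, Projectivization.mk_eq_mk_iff']
  refine ⟨b, ?_⟩
  rw [hx, show B P.f x.1.1.rep = _ from hcrd 0, show B P.v x.1.1.rep = _ from hcrd 1]
  conv_lhs => rw [hy]
  simp [crd, smul_smul]

theorem toPt_congr {x : P.Pts} {u : V} (hu : u ≠ 0) (huu : B u u = 0)
    (e : x.1 = isoPoint hu huu) (hu' : (algebraMap F (AlgebraicClosure F)) ∘ P.crd u ≠ 0) :
    P.toPt h x = Projectivization.mk _ _ hu' := by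
  obtain ⟨a, ha⟩ := Projectivization.exists_smul_eq_mk_rep F u hu
  rw [toPt, Projectivization.mk_eq_mk_iff']
  refine ⟨algebraMap F (AlgebraicClosure F) a, funext fun i => ?_⟩
  have hx : x.1.1.rep = (a : F) • u := by
    rw [e]; exact ha.symm
  simp only [Pi.smul_apply, Function.comp_apply, smul_eq_mul, hx, ← map_mul]
  fin_cases i <;> simp [crd, smul_right]

theorem smul_mem_Pts {g : HSU B} (hg : g ∈ P.chordStab h H) (x : P.Pts) :
    (g • x.1).1.rep ∈ P.plane := by
  have hgx : ap g x.1.1.rep ≠ 0 := by simpa using x.1.1.rep_nonzero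
  have e : g • x.1 = isoPoint hgx (by rw [ap_eq]; exact x.1.2) := by
    conv_lhs => rw [show x.1 = isoPoint x.1.1.rep_nonzero x.1.2 from
      Subtype.ext x.1.1.mk_rep.symm]
    exact smul_isoPoint _ _ _ _ rfl
  obtain ⟨a, ha⟩ := Projectivization.exists_smul_eq_mk_rep F _ hgx
  rw [e]
  show (Projectivization.mk F _ hgx).rep ∈ P.plane
  rw [← ha, Units.smul_def]
  exact P.plane.smul_mem _ (P.chordStab_plane h H hg x.2)

theorem toMob_smul (g : P.chordStab h H) (x : P.Pts) :
    P.toMob h H g • P.toPt h x =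
      P.toPt h ⟨(g : HSU B) • x.1, P.smul_mem_Pts h H g.2 x⟩ := by
  have hgx : ap (g : HSU B) x.1.1.rep ≠ 0 := by simpa using x.1.1.rep_nonzero
  have key : (P.matHom h H g) *ᵥ ((algebraMap F (AlgebraicClosure F)) ∘ P.crd x.1.1.rep) =
      (algebraMap F (AlgebraicClosure F)) ∘ P.crd (ap (g : HSU B) x.1.1.rep) := by
    rw [← P.mat_mulVec h x.2]
    funext i
    exact (RingHom.map_mulVec (algebraMap F (AlgebraicClosure F)) (P.mat g) (P.crd x.1.1.rep) i).symm
  have hne : (algebraMap F (AlgebraicClosure F)) ∘ P.crd (ap (g : HSU B) x.1.1.rep) ≠ 0 :=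
    fun e => hgx (P.crd_eq_zero h (P.chordStab_plane h H g.2 x.2) (funext fun i => by
      have := congrFun e i
      simpa using this))
  rw [P.toPt_congr h (x := ⟨(g : HSU B) • x.1, P.smul_mem_Pts h H g.2 x⟩) hgx
    (by rw [ap_eq]; exact x.1.2) (show (g : HSU B) • x.1 = _ by
      conv_lhs => rw [show x.1 = isoPoint x.1.1.rep_nonzero x.1.2 from
        Subtype.ext x.1.1.mk_rep.symm]
      exact smul_isoPoint _ _ _ _ rfl) hne]
  rw [toPt, toMob, MonoidHom.comp_apply, Projectivization.PGL.mk_smul_mk,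
    Projectivization.mk_eq_mk_iff']
  exact ⟨1, by rw [one_smul, Units.smul_def, Matrix.smul_eq_mulVec, MonoidHom.coe_toHomUnits, key]⟩

/-- The centre as a point of its chord. -/
noncomputable def centre : P.Pts :=
  ⟨isoPoint P.v_ne P.vv, by
    obtain ⟨a, ha⟩ := Projectivization.exists_smul_eq_mk_rep F P.v P.v_ne
    show (Projectivization.mk F P.v P.v_ne).rep ∈ P.plane
    rw [← ha, Units.smul_def]
    exact P.plane.smul_mem _ P.v_mem⟩

end HPair

end CfsgLib.LocalEvenB.MinIndexSU
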