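import Cfsg.Agent.Lib.LocalEvenB.MinIndexSU.ThreeIndex.ChordGroup

/-!
What the classification of subgroups of the group of Möbius transformations says about a chord.
-/

set_option autoImplicit false

namespace CfsgLib.LocalEvenB.MinIndexSU

open CfsgLib.Classical CfsgLib.Classical.Herm
open scoped Pointwise

/-- An element of a normal cyclic subgroup fixing one point of an orbit fixes all of it. -/
theorem fix_orbit_of_cyclic {G X : Type*} [Group G] [MulAction G X] (C : Subgroup G) [C.Normal]
    [IsCyclic C] {k : G} (hk : k ∈ C) {x : X} (hkx : k • x = x) (g : G) : k • g • x = g • x := by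
  obtain ⟨c, hc⟩ := IsCyclic.exists_generator (α := C)
  obtain ⟨i, hi⟩ := Subgroup.mem_zpowers_iff.1 (hc ⟨k, hk⟩)
  obtain ⟨m, hm⟩ := Subgroup.mem_zpowers_iff.1 (hc ⟨g⁻¹ * (c : G) * g, by
    simpa using (inferInstance : C.Normal).conj_mem c c.2 g⁻¹⟩)
  have hk' : (c : G) ^ i = k := congrArg Subtype.val hi
  have hm' : (c : G) ^ m = g⁻¹ * (c : G) * g := congrArg Subtype.val hm
  have e : g⁻¹ * k * g = k ^ m := by
    rw [← hk', ← zpow_mul, mul_comm i m, zpow_mul, hm']
    exact map_zpow (MulAut.conj g⁻¹) (c : G) i |>.trans (by simp [MulAut.conj_apply])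
      |> (fun e' => by simpa [MulAut.conj_apply] using e')
  have h1 : (k ^ m) • x = x := by
    have : k ∈ MulAction.stabilizer G x := MulAction.mem_stabilizer_iff.2 hkx
    exact MulAction.mem_stabilizer_iff.1 ((MulAction.stabilizer G x).zpow_mem this m)
  rw [← e, mul_smul, mul_smul, inv_smul_eq_iff] at h1
  exact h1

theorem card_pow_eq_congr {G G' : Type*} [Group G] [Group G'] [Fintype G'] [DecidableEq G']
    (e : G ≃* G') (p : ℕ) : Nat.card {u : G // u ≠ 1 ∧ u ^ p = 1} =
      (Finset.univ.filter fun g : G' => g ≠ 1 ∧ g ^ p = 1).card := by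
  classical
  rw [Nat.card_congr (e.toEquiv.subtypeEquiv (q := fun g : G' => g ≠ 1 ∧ g ^ p = 1) fun u => by
    show _ ↔ e u ≠ 1 ∧ e u ^ p = 1
    exact and_congr (not_congr e.map_eq_one_iff.symm) (by rw [← map_pow]; exact e.map_eq_one_iff.symm)),
    Nat.card_eq_fintype_card, Fintype.card_subtype]

theorem count_alt_four :
    (Finset.univ.filter fun g : alternatingGroup (Fin 4) => g ≠ 1 ∧ g ^ 2 = 1).card = 3 ∧
    (Finset.univ.filter fun g : alternatingGroup (Fin 4) => g ≠ 1 ∧ g ^ 3 = 1).card = 8 := by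
  decide +kernel

theorem count_perm_four :
    (Finset.univ.filter fun g : Equiv.Perm (Fin 4) => g ≠ 1 ∧ g ^ 2 = 1).card = 9 ∧
    (Finset.univ.filter fun g : Equiv.Perm (Fin 4) => g ≠ 1 ∧ g ^ 3 = 1).card = 8 := by
  decide +kernel

theorem count_alt_five :
    (Finset.univ.filter fun g : alternatingGroup (Fin 5) => g ≠ 1 ∧ g ^ 2 = 1).card = 15 ∧
    (Finset.univ.filter fun g : alternatingGroup (Fin 5) => g ≠ 1 ∧ g ^ 3 = 1).card = 20 ∧
    (Finset.univ.filter fun g : alternatingGroup (Fin 5) => g ≠ 1 ∧ g ^ 5 = 1).card = 24 := by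
  decide +kernel

variable {F : Type*} [Field F] {V : Type*} [AddCommGroup V] [Module F V] {σ : F →+* F}
  {B : V →ₛₗ[σ] V →ₗ[F] F} [Finite F] [FiniteDimensional F V] (h : IsHerm B)
  (h3 : Module.finrank F V = 3)

namespace HPair

variable (P : HPair B) (H : Subgroup (HSU B))

include h3

/-- A chord stabiliser without transvections. -/
theorem pure_cases (hA : ∀ Q : HPair B, Q.AS h H = ⊥)
    (htr : ∀ x : P.Pts, ∃ g ∈ P.chordStab h H, g • P.centre.1 = x.1) :
    Nat.card ((P.scalars (P.chordStab h H)).map (powMonoidHom (Nat.card (fixedSub σ) + 1))) ≤ 2 ∨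
      ∃ M ∈ ({12, 24, 60} : Finset ℕ), (Nat.card (fixedSub σ) + 1) *
        Nat.card ((P.scalars (P.chordStab h H)).map (powMonoidHom (Nat.card (fixedSub σ) + 1))) ∣ M := by
  classical
  obtain ⟨p, hpc⟩ := CharP.exists F
  have : Fact p.Prime := ⟨CharP.char_is_prime F p⟩
  have := charP_closure (F := F) p
  have := P.finite_mobImage h H
  have hq := IsInvol.card_ge_two (σ := σ)
  set K := P.mobImage h H
  set x := P.toPt h P.centre
  set cc := Nat.card ((P.scalars (P.chordStab h H)).map (powMonoidHom (Nat.card (fixedSub σ) + 1)))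
  have hnp : ¬ p ∣ Nat.card K := fun hd => by
    obtain ⟨u, hu⟩ := exists_prime_orderOf_dvd_card' p hd
    have hu1 : u ≠ 1 := fun e => by
      rw [e, orderOf_one] at hu
      exact (Fact.out : p.Prime).one_lt.ne hu
    obtain ⟨y, -, hy⟩ := P.exists_transvection h H h3 p (hu ▸ pow_orderOf_eq_one u) hu1
    obtain ⟨Q, hQ, hQx⟩ := P.pair_at h y
    obtain ⟨c, hc, -⟩ := hy Q hQ hQx
    exact hc (Subtype.ext (AddSubgroup.mem_bot.1 (hA Q ▸ c.2)))
  have horb := P.orbCard_centre h H htr
  have horb' : Nat.card (MulAction.orbit K x) = Nat.card (fixedSub σ) + 1 := horb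
  have hdvd : cc ∣ Dickson.stCard K x := P.card_norms_dvd_stCard h H
  have hK : Dickson.orbCard K x * Dickson.stCard K x = Nat.card K :=
    Dickson.orbCard_mul_stCard x
  rw [horb] at hK
  have hbig : (Nat.card (fixedSub σ) + 1) * cc ∣ Nat.card K := hK ▸ Nat.mul_dvd_mul_left _ hdvd
  have hsmall : ∀ C : Subgroup K, C.Normal → IsCyclic C →
      ∀ k : K, k ∈ C → k • x = x → k = 1 := by
    intro C _ _ k hk hkx
    have hall : ∀ z ∈ MulAction.orbit K x, k • z = z := by
      rintro _ ⟨g, rfl⟩
      exact fix_orbit_of_cyclic C hk hkx g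
    have : Finite (MulAction.orbit K x) := Nat.finite_of_card_ne_zero (by omega)
    have hc3 : 3 ≤ (Set.toFinite (MulAction.orbit K x)).toFinset.card := by
      rw [← Nat.card_eq_card_finite_toFinset]
      omega
    obtain ⟨a, b, c, ha, hb, hc, hab, hac, hbc⟩ := Finset.two_lt_card_iff.1 hc3
    rw [Set.Finite.mem_toFinset] at ha hb hc
    exact Dickson.eq_one_of_three (G := K) hab hac hbc (hall a ha) (hall b hb) (hall c hc)
  have hst : Dickson.stCard K x = Nat.card (MulAction.stabilizer K x) :=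
    Nat.card_congr (Equiv.subtypeEquivRight fun g => MulAction.mem_stabilizer_iff.symm)
  have hpos : 0 < Dickson.stCard K x := Dickson.stCard_pos x
  rcases Dickson.structure_cases (G := K) (p := p) with
    ⟨hcyc, -⟩ | ⟨hd, -⟩ | ⟨n, hn, -, ⟨C, hC, hCn⟩, ⟨e⟩⟩ | ⟨⟨e⟩⟩ | ⟨⟨e⟩⟩ | ⟨⟨e⟩⟩ | hsub
  · left
    have h1 : MulAction.stabilizer K x = ⊥ := (Subgroup.eq_bot_iff_forall _).2 fun k hk =>
      hsmall ⊤ inferInstance (Subgroup.topEquiv.isCyclic.2 hcyc) k trivial hk
    rw [hst, h1, Subgroup.card_bot] at hdvd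
    have := Nat.le_of_dvd one_pos hdvd
    omega
  · exact absurd hd hnp
  · left
    have hidx : C.index = 2 := by
      have h2 := Subgroup.card_mul_index C
      rw [hCn, Nat.card_congr e.toEquiv, DihedralGroup.nat_card, mul_comm 2 n] at h2
      exact Nat.eq_of_mul_eq_mul_left (by omega) h2
    have := Subgroup.normal_of_index_eq_two hidx
    have hle : Nat.card (MulAction.stabilizer K x) ≤ 2 := by
      refine le_of_le_of_eq ?_ hidx
      rw [Subgroup.index]
      refine Nat.card_le_card_of_injective (fun k => QuotientGroup.mk (k : K)) fun k l ekl => ?_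
      have h1 := hsmall C this hC _ (QuotientGroup.eq.1 ekl)
        (MulAction.mem_stabilizer_iff.1 ((MulAction.stabilizer K x).mul_mem
          ((MulAction.stabilizer K x).inv_mem k.2) l.2))
      exact Subtype.ext (inv_mul_eq_one.1 h1)
    rw [← hst] at hle
    exact (Nat.le_of_dvd hpos hdvd).trans hle
  · exact Or.inr ⟨12, by simp, by
      rwa [Nat.card_congr e.toEquiv, nat_card_alternatingGroup, Nat.card_fin,
        show Nat.factorial 4 / 2 = 12 from rfl] at hbig⟩
  · exact Or.inr ⟨24, by simp, by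
      rwa [Nat.card_congr e.toEquiv, Nat.card_perm, Nat.card_fin,
        show Nat.factorial 4 = 24 from rfl] at hbig⟩
  · exact Or.inr ⟨60, by simp, by
      rwa [Nat.card_congr e.toEquiv, nat_card_alternatingGroup, Nat.card_fin,
        show Nat.factorial 5 / 2 = 60 from rfl] at hbig⟩
  · obtain ⟨x', z, i, e, c, h3i, -, -, -, hK', -⟩ := hsub
    refine absurd ?_ hnp
    rw [hK']
    exact Dvd.dvd.mul_left ((dvd_pow_self p fun e0 => by rw [e0, pow_zero] at h3i; omega).mul_right e) _

include P in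
/-- A chord stabiliser with transvections at all its points, but not all of them. -/
theorem transvection_cases (p : ℕ) [Fact p.Prime] [CharP F p] {a : ℕ}
    (hA : ∀ Q : HPair B, Nat.card (Q.AS h H) = a) (ha : 2 ≤ a) (haq : a < Nat.card (fixedSub σ)) :
    (p = 2 ∧ a = 2) ∨ (Nat.card (fixedSub σ) = 9 ∧ a = 3) := by
  classical
  have := charP_closure (F := F) p
  have := P.finite_mobImage h H
  have hp := (Fact.out : p.Prime)
  set q := Nat.card (fixedSub σ) with hqdef
  set K := P.mobImage h H
  have hPts : Nat.card P.Pts = q + 1 := card_chord h P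
  have : Finite P.Pts := Nat.finite_of_card_ne_zero (by omega)
  choose Q hQ hQx using P.pair_at h
  have hun : ∀ x, Dickson.unCard K p (P.toPt h x) = a := fun x =>
    (P.unCard_toPt h H h3 p (hQ x) (hQx x)).trans (hA _)
  have hex : ∀ x, ∃ c : (Q x).AS h H, c ≠ 0 := fun x => by
    have : Nontrivial ((Q x).AS h H) := Finite.one_lt_card_iff_nontrivial.1 (by rw [hA]; omega)
    exact exists_ne 0
  obtain ⟨i, hi⟩ : ∃ i, a = p ^ i := by
    obtain ⟨i, hi⟩ := Dickson.unCard_prime_pow (p := p) (G := K) (P.toPt h P.centre)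
    exact ⟨i, (hun _).symm.trans hi⟩
  obtain ⟨j, hj⟩ : ∃ j, q = p ^ j := by
    have : Fintype F := Fintype.ofFinite F
    obtain ⟨n, -, hn⟩ := FiniteField.card F p
    obtain ⟨j, -, hj⟩ := (Nat.dvd_prime_pow hp).1 (show q ∣ p ^ (n : ℕ) by
      rw [← hn, ← Nat.card_eq_fintype_card, h.invol.card_sq]
      exact dvd_pow_self _ two_ne_zero)
    exact ⟨j, hj⟩
  have hpaq : p * a ≤ q := by
    rw [hi, hj, ← pow_succ']
    refine Nat.pow_le_pow_right hp.pos ?_
    by_contra hlt
    have := Nat.pow_le_pow_right hp.pos (show j ≤ i by omega)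
    omega
  have hadvd : a ∣ Nat.card K := by
    rw [← hun P.centre, ← Dickson.card_unip]
    exact Subgroup.card_subgroup_dvd_card _
  have hpda : p ∣ a := hi ▸ dvd_pow_self p fun e0 => by rw [e0, pow_zero] at hi; omega
  have hcount : (q + 1) * (a - 1) ≤ Nat.card {u : K // u ≠ 1 ∧ u ^ p = 1} := by
    have hsig : Nat.card (Σ x : P.Pts, {c : (Q x).AS h H // c ≠ 0}) = (q + 1) * (a - 1) := by
      have : Fintype P.Pts := Fintype.ofFinite _
      rw [Nat.card_sigma, Finset.sum_congr rfl fun x _ => show _ = a - 1 by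
        have : Fintype ((Q x).AS h H) := Fintype.ofFinite _
        rw [← hA (Q x), Nat.card_eq_fintype_card, Nat.card_eq_fintype_card,
          Fintype.card_subtype_compl, Fintype.card_subtype_eq],
        Finset.sum_const, Finset.card_univ, smul_eq_mul, ← Nat.card_eq_fintype_card, hPts]
    rw [← hsig]
    refine Nat.card_le_card_of_injective (fun s => ⟨P.tvMob h H (hQ s.1) s.2.1,
      fun e => s.2.2 ((P.tvMob_eq_one_iff h H h3 (hQ s.1) _).1 e), P.tvMob_pow h H p (hQ s.1) _⟩) ?_
    rintro ⟨x, c, hc⟩ ⟨y, d, hd⟩ e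
    have e' : P.tvMob h H (hQ x) c = P.tvMob h H (hQ y) d := congrArg Subtype.val e
    have h1 : P.tvMob h H (hQ x) c • P.toPt h x = P.toPt h x := P.tvMob_fix h H (hQ x) c (hQx x)
    have h2 : P.tvMob h H (hQ x) c • P.toPt h y = P.toPt h y := by
      rw [e']; exact P.tvMob_fix h H (hQ y) d (hQx y)
    obtain rfl : x = y := P.toPt_injective h (P.fix_unique h H p (P.tvMob_pow h H p (hQ x) c)
      (fun e0 => hc ((P.tvMob_eq_one_iff h H h3 (hQ x) _).1 e0)) h1 h2)
    obtain rfl : c = d := P.tvMob_injective h H h3 (hQ x) e'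
    rfl
  rcases Dickson.structure_cases (G := K) (p := p) with
    ⟨-, hd⟩ | ⟨-, x₀, hx₀⟩ | ⟨n, hn, hpn, -, ⟨e⟩⟩ | ⟨⟨e⟩⟩ | ⟨⟨e⟩⟩ | ⟨⟨e⟩⟩ | hsub
  · exact absurd (hpda.trans hadvd) hd
  · exfalso
    obtain ⟨x, y, hxy⟩ := (Finite.one_lt_card_iff_nontrivial.1
      (show 1 < Nat.card P.Pts by omega)).exists_pair_ne
    have hfix : ∀ x, P.toPt h x = x₀ := fun x => by
      obtain ⟨c, hc⟩ := hex x
      exact P.fix_unique h H p (P.tvMob_pow h H p (hQ x) c)
        (fun e0 => hc ((P.tvMob_eq_one_iff h H h3 (hQ x) _).1 e0))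
        (P.tvMob_fix h H (hQ x) c (hQx x)) (hx₀ _)
    exact hxy (P.toPt_injective h ((hfix x).trans (hfix y).symm))
  · left
    rw [Nat.card_congr e.toEquiv, DihedralGroup.nat_card] at hadvd
    have hp2 : p = 2 := ((Nat.prime_dvd_prime_iff_eq hp Nat.prime_two).1
      ((hp.dvd_mul.1 (hpda.trans hadvd)).resolve_right hpn))
    refine ⟨hp2, ?_⟩
    subst hp2
    have hcop : Nat.Coprime a n := by
      rw [hi]; exact Nat.Coprime.pow_left _ ((Nat.Prime.coprime_iff_not_dvd hp).2 hpn)
    have := Nat.le_of_dvd two_pos (hcop.dvd_of_dvd_mul_right hadvd)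
    omega
  · rw [Nat.card_congr e.toEquiv, nat_card_alternatingGroup, Nat.card_fin,
      show Nat.factorial 4 / 2 = 12 from rfl] at hadvd
    have hp5 : p = 2 ∨ p = 3 := by
      have := Nat.le_of_dvd (by norm_num) (hpda.trans hadvd)
      interval_cases p <;>
        first
          | omega
          | (norm_num at hp; done)
          | (exfalso; have := hpda.trans hadvd; norm_num at this; done)
    rw [card_pow_eq_congr e] at hcount
    rcases hp5 with rfl | rfl
    · rw [count_alt_four.1] at hcount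
      have := Nat.mul_le_mul_left (q + 1) (show 1 ≤ a - 1 by omega)
      omega
    · rw [count_alt_four.2] at hcount
      have ha3 : 3 ≤ a := Nat.le_of_dvd (by omega) hpda
      have := Nat.mul_le_mul_left (q + 1) (show 2 ≤ a - 1 by omega)
      omega
  · rw [Nat.card_congr e.toEquiv, Nat.card_perm, Nat.card_fin,
      show Nat.factorial 4 = 24 from rfl] at hadvd
    have hp5 : p = 2 ∨ p = 3 := by
      have := Nat.le_of_dvd (by norm_num) (hpda.trans hadvd)
      interval_cases p <;>
        first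
          | omega
          | (norm_num at hp; done)
          | (exfalso; have := hpda.trans hadvd; norm_num at this; done)
    rw [card_pow_eq_congr e] at hcount
    rcases hp5 with rfl | rfl
    · rw [count_perm_four.1] at hcount
      rcases Nat.lt_or_ge a 3 with ha3 | ha3
      · exact Or.inl ⟨rfl, by omega⟩
      have := Nat.mul_le_mul_left (q + 1) (show 2 ≤ a - 1 by omega)
      omega
    · rw [count_perm_four.2] at hcount
      have ha3 : 3 ≤ a := Nat.le_of_dvd (by omega) hpda
      have := Nat.mul_le_mul_left (q + 1) (show 2 ≤ a - 1 by omega)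
      omega
  · rw [Nat.card_congr e.toEquiv, nat_card_alternatingGroup, Nat.card_fin,
      show Nat.factorial 5 / 2 = 60 from rfl] at hadvd
    have hp5 : p = 2 ∨ p = 3 ∨ p = 5 := by
      have := Nat.le_of_dvd (by norm_num) (hpda.trans hadvd)
      interval_cases p <;>
        first
          | omega
          | (norm_num at hp; done)
          | (exfalso; have := hpda.trans hadvd; norm_num at this; done)
    rw [card_pow_eq_congr e] at hcount
    rcases hp5 with rfl | rfl | rfl
    · rw [count_alt_five.1] at hcount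
      rcases Nat.lt_or_ge a 3 with ha3 | ha3
      · exact Or.inl ⟨rfl, by omega⟩
      have := Nat.mul_le_mul_left (q + 1) (show 2 ≤ a - 1 by omega)
      omega
    · rw [count_alt_five.2.1] at hcount
      have ha3 : 3 ≤ a := Nat.le_of_dvd (by omega) hpda
      have := Nat.mul_le_mul_left (q + 1) (show 2 ≤ a - 1 by omega)
      exact Or.inr (by omega)
    · rw [count_alt_five.2.2] at hcount
      have ha5 : 5 ≤ a := Nat.le_of_dvd (by omega) hpda
      have := Nat.mul_le_mul_left (q + 1) (show 4 ≤ a - 1 by omega)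
      omega
  · exfalso
    obtain ⟨x₀, -, k, e, c, h3k, hfx, horb, hst, hK, he, h2e, -⟩ := hsub
    have hf3 := h3k
    have hk0 : k ≠ 0 := fun e0 => by rw [e0, pow_zero] at h3k; omega
    -- the point fixed by the Sylow subgroup lies on the chord
    let U := Dickson.unip K p x₀
    have hU : Nat.card U = p ^ k := by rw [Dickson.card_unip, hfx]
    obtain ⟨u, hu, hu1⟩ := (Subgroup.bot_or_exists_ne_one U).resolve_left fun e0 => by
      rw [e0, Subgroup.card_bot] at hU; omega
    obtain ⟨y, hy, -⟩ := P.exists_transvection h H h3 p (Dickson.mem_unip.1 hu).2 hu1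
    have hx₀ : P.toPt h y = x₀ := P.fix_unique h H p (Dickson.mem_unip.1 hu).2 hu1 hy (Dickson.mem_unip.1 hu).1
    have hka : p ^ k = a := by rw [← hfx, ← hx₀, hun]
    have hnd : ¬ p ∣ (p ^ k + 1) * e := by
      have hpk : p ∣ p ^ k := dvd_pow_self p hk0
      intro hd
      rcases hp.dvd_mul.1 hd with hd | hd
      · exact hp.not_dvd_one ((Nat.dvd_add_right hpk).1 hd)
      · rcases he with he | he
        · rw [he] at hd
          exact hp.not_dvd_one ((Nat.dvd_sub_iff_right (by omega) hpk).1 hd)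
        · have := hd.mul_left 2
          rw [he] at this
          exact hp.not_dvd_one ((Nat.dvd_sub_iff_right (by omega) hpk).1 this)
    have hsyl : ∀ x, P.toPt h x ∈ MulAction.orbit K x₀ := by
      intro x
      obtain ⟨d, hd⟩ := hex x
      set v := P.tvMob h H (hQ x) d
      have hv1 : v ≠ 1 := fun e0 => hd ((P.tvMob_eq_one_iff h H h3 (hQ x) _).1 e0)
      have hvp : v ^ p = 1 := P.tvMob_pow h H p (hQ x) d
      have hz : IsPGroup p (Subgroup.zpowers v) := IsPGroup.of_card (n := 1) (by
        rw [Nat.card_zpowers, pow_one]; exact orderOf_eq_prime hvp hv1)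
      obtain ⟨S, hS⟩ := hz.exists_le_sylow
      let T : Sylow p K := Sylow.ofCard U (by
        rw [hU, hK, show (p ^ k + 1) * (p ^ k * e) = p ^ k * ((p ^ k + 1) * e) by ring,
          Nat.factorization_mul (pow_pos hp.pos _).ne' (show (p ^ k + 1) * e ≠ 0 from fun e0 => hnd (by rw [e0]; exact dvd_zero p)),
          Finsupp.add_apply, hp.factorization_pow, Finsupp.single_eq_same,
          Nat.factorization_eq_zero_of_not_dvd hnd, add_zero])
      obtain ⟨g, hg⟩ := MulAction.exists_smul_eq K T S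
      have hmem : v ∈ ((g • T : Sylow p K) : Subgroup K) := hg ▸ hS (Subgroup.mem_zpowers v)
      rw [Sylow.coe_subgroup_smul, Subgroup.mem_pointwise_smul_iff_inv_smul_mem] at hmem
      have hfix : (g⁻¹ * v * g) • x₀ = x₀ := by
        have := (Dickson.mem_unip.1 hmem).1
        simpa [MulAut.smul_def] using this
      refine ⟨g, P.fix_unique h H p hvp hv1 ?_ (P.tvMob_fix h H (hQ x) d (hQx x))⟩
      rw [mul_smul, mul_smul, inv_smul_eq_iff] at hfix
      exact hfix
    have hle : Nat.card P.Pts ≤ Dickson.orbCard K x₀ := by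
      have : Finite (MulAction.orbit K x₀) :=
        Nat.finite_of_card_ne_zero (show Dickson.orbCard K x₀ ≠ 0 by omega)
      exact Nat.card_le_card_of_injective (fun x => (⟨_, hsyl x⟩ : MulAction.orbit K x₀))
        fun x y e0 => P.toPt_injective h (congrArg Subtype.val e0)
    omega

end HPair

end CfsgLib.LocalEvenB.MinIndexSU
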