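import Cfsg.Agent.Lib.LocalEvenB.MinIndexSU.ThreeIndex.Chord
import Cfsg.Agent.Lib.Classical.Dickson.PSL

/-!
The group induced on a chord: order, point stabilisers and elements of the characteristic.
-/

set_option autoImplicit false

namespace CfsgLib.LocalEvenB.MinIndexSU

open CfsgLib.Classical CfsgLib.Classical.Herm
open Matrix

variable {F : Type*} [Field F] {V : Type*} [AddCommGroup V] [Module F V] {σ : F →+* F}
  {B : V →ₛₗ[σ] V →ₗ[F] F} [Finite F] [FiniteDimensional F V] (h : IsHerm B)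

namespace HPair

variable (P : HPair B) (H : Subgroup (HSU B))

/-- The group induced on the chord. -/
noncomputable abbrev mobImage : Subgroup (Dickson.Mob (AlgebraicClosure F)) :=
  (P.toMob h H).range

theorem finite_mobImage : Finite (P.mobImage h H) := by
  have : Finite V := Module.finite_of_finite F
  have := finite_HSU (B := B)
  exact Finite.of_surjective _ (P.toMob h H).rangeRestrict_surjective

include h in
theorem pair_at (x : P.Pts) :
    ∃ Q : HPair B, Q.plane = P.plane ∧ isoPoint Q.v_ne Q.vv = x.1 := by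
  have hx := P.plane_decomp h x.2
  obtain ⟨w, hw, hww, hwm⟩ :
      ∃ w, B x.1.1.rep w ≠ 0 ∧ B w w = 0 ∧ w ∈ P.plane := by
    by_cases h1 : B x.1.1.rep P.v = 0
    · refine ⟨P.f, fun h2 => x.1.1.rep_nonzero ?_, P.ff, P.f_mem⟩
      rw [hx, h.eq_zero_symm h1, h.eq_zero_symm h2, zero_smul, zero_smul, add_zero]
    · exact ⟨P.v, h1, P.vv, P.v_mem⟩
  obtain ⟨Q, hv, a, -, hf⟩ := HPair.exists_of_points h x.1.2 hww hw
  refine ⟨Q, Submodule.eq_of_le_of_finrank_le ?_ ?_, ?_⟩
  · rw [plane, Submodule.span_le, Set.insert_subset_iff, Set.singleton_subset_iff]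
    exact ⟨hv ▸ x.2, hf ▸ P.plane.smul_mem a hwm⟩
  · rw [show Module.finrank F P.plane = 2 from h.pair_finrank (h.hyperbolic_disc P.vv P.vf),
      show Module.finrank F Q.plane = 2 from h.pair_finrank (h.hyperbolic_disc Q.vv Q.vf)]
  · refine Subtype.ext ?_
    show Projectivization.mk F Q.v Q.v_ne = x.1.1
    conv_rhs => rw [← x.1.1.mk_rep]
    rw [Projectivization.mk_eq_mk_iff']
    exact ⟨1, by rw [one_smul, hv]⟩

theorem Tv_mem_chordStab {Q : HPair B} (hQ : Q.plane = P.plane) {c : F} (hc : c ∈ Q.AS h H) :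
    Q.Tv h (Q.AS_skew h H hc) ∈ P.chordStab h H := by
  refine ⟨hc.2, fun w => ?_⟩
  rw [MinIndexSU.T_apply, show B Q.v (w : V) = 0 from h.mem_orth.1 w.2 _ (hQ ▸ Q.v_mem), mul_zero,
    zero_smul, add_zero]
  exact w.2

/-- A transvection of the subgroup as a transformation of the chord. -/
noncomputable def tvMob {Q : HPair B} (hQ : Q.plane = P.plane) (c : Q.AS h H) : P.mobImage h H :=
  ⟨P.toMob h H ⟨_, P.Tv_mem_chordStab h H hQ c.2⟩, _, rfl⟩

theorem toMob_fix_iff (g : P.chordStab h H) (x : P.Pts) :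
    P.toMob h H g • P.toPt h x = P.toPt h x ↔ (g : HSU B) • x.1 = x.1 := by
  rw [toMob_smul, (P.toPt_injective h).eq_iff]
  exact ⟨fun e => congrArg Subtype.val e, fun e => Subtype.ext e⟩

theorem tvMob_fix {Q : HPair B} (hQ : Q.plane = P.plane) (c : Q.AS h H) {x : P.Pts}
    (hx : isoPoint Q.v_ne Q.vv = x.1) :
    (P.tvMob h H hQ c : Dickson.Mob (AlgebraicClosure F)) • P.toPt h x = P.toPt h x := by
  refine (P.toMob_fix_iff h H _ x).2 ?_
  rw [← hx]
  refine smul_isoPoint _ _ _ _ ?_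
  show ap (Q.Tv h (Q.AS_skew h H c.2)) Q.v = Q.v
  rw [MinIndexSU.T_apply, Q.vv, mul_zero, zero_smul, add_zero]

theorem tvMob_zero {Q : HPair B} (hQ : Q.plane = P.plane) : P.tvMob h H hQ 0 = 1 := by
  refine Subtype.ext ?_
  show P.toMob h H _ = 1
  rw [show (⟨_, P.Tv_mem_chordStab h H hQ (0 : Q.AS h H).2⟩ : P.chordStab h H) = 1 from
    Subtype.ext (ap_ext fun y => by simp [MinIndexSU.T_apply, ap_one]), map_one]

theorem tvMob_add {Q : HPair B} (hQ : Q.plane = P.plane) (c d : Q.AS h H) :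
    P.tvMob h H hQ c * P.tvMob h H hQ d = P.tvMob h H hQ (c + d) := by
  refine Subtype.ext ?_
  show P.toMob h H _ * P.toMob h H _ = P.toMob h H _
  rw [← map_mul]
  refine congrArg _ (Subtype.ext (ap_ext fun y => ?_))
  simp only [Subgroup.coe_mul, ap_mul, MinIndexSU.T_apply, map_add, smul_right, Q.vv,
    AddSubgroup.coe_add]
  match_scalars <;> ring

theorem tvMob_pow (p : ℕ) [CharP F p] {Q : HPair B} (hQ : Q.plane = P.plane) (c : Q.AS h H) :
    P.tvMob h H hQ c ^ p = 1 := by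
  have hn : ∀ n : ℕ, P.tvMob h H hQ c ^ n = P.tvMob h H hQ (n • c) := by
    intro n
    induction n with
    | zero => rw [pow_zero, zero_smul, P.tvMob_zero h H hQ]
    | succ n ih => rw [pow_succ, ih, succ_nsmul, P.tvMob_add h H hQ]
  rw [hn, show p • c = 0 from Subtype.ext (by
    rw [AddSubgroup.coe_nsmul, nsmul_eq_mul, CharP.cast_eq_zero, zero_mul]; rfl), P.tvMob_zero h H hQ]

variable (h3 : Module.finrank F V = 3)
include h3

theorem tvMob_eq_one_iff {Q : HPair B} (hQ : Q.plane = P.plane) (c : Q.AS h H) :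
    P.tvMob h H hQ c = 1 ↔ c = 0 := by
  refine ⟨fun e => ?_, fun e => by rw [e, P.tvMob_zero h H hQ]⟩
  have hf0 : Q.f ≠ 0 := fun e0 => by
    have := Q.vf
    rw [e0, map_zero] at this
    exact zero_ne_one this
  obtain ⟨a, ha⟩ := Projectivization.exists_smul_eq_mk_rep F Q.f hf0
  have hmem : (isoPoint hf0 Q.ff).1.rep ∈ P.plane := by
    show (Projectivization.mk F Q.f hf0).rep ∈ P.plane
    rw [← ha, Units.smul_def]
    exact P.plane.smul_mem _ (hQ ▸ Q.f_mem)
  have h1 : P.toMob h H ⟨_, P.Tv_mem_chordStab h H hQ c.2⟩ = 1 := congrArg Subtype.val e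
  have h2 := (P.toMob_fix_iff h H ⟨_, P.Tv_mem_chordStab h H hQ c.2⟩ ⟨_, hmem⟩).1
    (by rw [h1, one_smul])
  have h4 := Q.EU_fix_unique h h3 (Q.Tv_mem h (Q.AS_skew h H c.2)) h2 fun e' => by
    obtain ⟨b, hb⟩ := (isoPoint_eq_iff hf0 Q.ff Q.v_ne Q.vv).1 e'
    have := Q.vf
    rw [← hb, smul_right, Q.vv, mul_zero] at this
    exact zero_ne_one this
  have h5 := congrArg (fun g => B Q.f (ap g Q.f)) h4
  simp only [MinIndexSU.T_apply, ap_one, Q.ff, Q.vf, map_add, smul_right, Q.fv h, mul_one,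
    zero_add] at h5
  exact Subtype.ext h5

theorem tvMob_injective {Q : HPair B} (hQ : Q.plane = P.plane) :
    Function.Injective (P.tvMob h H hQ) := by
  intro c d e
  refine sub_eq_zero.1 ((P.tvMob_eq_one_iff h H h3 hQ _).1 (mul_right_cancel (b := P.tvMob h H hQ d) ?_))
  rw [P.tvMob_add h H hQ, sub_add_cancel, one_mul, e]

variable (p : ℕ) [Fact p.Prime] [CharP F p]

/-- Elements of order the characteristic come from transvections. -/
theorem exists_transvection {u : P.mobImage h H} (hu : u ^ p = 1) (hu1 : u ≠ 1) :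
    ∃ x : P.Pts, u • P.toPt h x = P.toPt h x ∧
      ∀ Q : HPair B, ∀ hQ : Q.plane = P.plane, isoPoint Q.v_ne Q.vv = x.1 →
        ∃ c : Q.AS h H, c ≠ 0 ∧ P.tvMob h H hQ c = u := by
  classical
  have : Finite V := Module.finite_of_finite F
  have := finite_HSU (B := B)
  obtain ⟨g, hg⟩ := u.2
  obtain ⟨i, m, hm, hord⟩ := Nat.exists_eq_pow_mul_and_not_dvd (orderOf_pos g).ne' p
    (Fact.out : p.Prime).ne_one
  obtain ⟨k, hk⟩ := Nat.exists_mul_mod_eq_one_of_coprime
    ((Nat.Prime.coprime_iff_not_dvd Fact.out).2 hm).symm (Fact.out : p.Prime).one_lt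
  set g2 := g ^ (m * k) with hg2
  have hg2u : P.toMob h H g2 = u := by
    have e : (u : Dickson.Mob (AlgebraicClosure F)) ^ p = 1 := congrArg Subtype.val hu
    rw [hg2, map_pow, hg, ← Nat.div_add_mod (m * k) p, pow_add, pow_mul, e, one_pow, one_mul, hk.2,
      pow_one]
  have hg2p : g2 ^ p ^ i = 1 := by
    rw [hg2, ← pow_mul, show m * k * p ^ i = orderOf g * k by rw [hord]; ring, pow_mul,
      pow_orderOf_eq_one, one_pow]
  let act : MulAction (Subgroup.zpowers g2) P.Pts :=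
    { smul := fun a x => ⟨((a : P.chordStab h H) : HSU B) • x.1,
        P.smul_mem_Pts h H (a : P.chordStab h H).2 x⟩
      one_smul := fun x => Subtype.ext (one_smul _ _)
      mul_smul := fun a b x => Subtype.ext (mul_smul _ _ _) }
  have hPts : Nat.card P.Pts = Nat.card (fixedSub σ) + 1 := card_chord h P
  have : Finite P.Pts := Nat.finite_of_card_ne_zero (by omega)
  have hnd : ¬ p ∣ Nat.card P.Pts := by
    have : Fintype F := Fintype.ofFinite F
    obtain ⟨n, -, hn⟩ := FiniteField.card F p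
    have hpd : p ∣ Nat.card (fixedSub σ) := by
      refine (Fact.out : p.Prime).dvd_of_dvd_pow (n := 2) ?_
      rw [← h.invol.card_sq, Nat.card_eq_fintype_card, hn]
      exact dvd_pow_self _ n.2.ne'
    rw [hPts]
    exact fun hd => (Fact.out : p.Prime).not_dvd_one ((Nat.dvd_add_right hpd).1 hd)
  have hp : IsPGroup p (Subgroup.zpowers g2) := by
    obtain ⟨j, -, hj⟩ := (Nat.dvd_prime_pow Fact.out).1 (orderOf_dvd_of_pow_eq_one hg2p)
    exact IsPGroup.of_card (n := j) (by rw [Nat.card_zpowers, hj])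
  obtain ⟨x, hx⟩ := hp.nonempty_fixed_point_of_prime_not_dvd_card P.Pts hnd
  have hgx : (g2 : HSU B) • x.1 = x.1 :=
    congrArg Subtype.val (hx ⟨g2, Subgroup.mem_zpowers g2⟩)
  refine ⟨x, ?_, fun Q hQ hQx => ?_⟩
  · show (u : Dickson.Mob (AlgebraicClosure F)) • P.toPt h x = P.toPt h x
    rw [← hg2u]
    exact (P.toMob_fix_iff h H g2 x).2 hgx
  obtain ⟨α, hα⟩ := (isoPoint_congr (g := (g2 : HSU B)) Q.v_ne Q.vv).1 (by rw [hQx]; exact hgx)
  have hpow : ∀ n : ℕ, ap ((g2 : HSU B) ^ n) Q.v = α ^ n • Q.v := by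
    intro n
    induction n with
    | zero => rw [pow_zero, pow_zero, ap_one, one_smul]
    | succ n ih => rw [pow_succ, ap_mul, hα, LinearEquiv.map_smul, ih, smul_smul, pow_succ']
  have hα1 : α = 1 := by
    have h1 := hpow (p ^ i)
    rw [← SubmonoidClass.coe_pow, hg2p, OneMemClass.coe_one, ap_one] at h1
    have h2 : α ^ p ^ i = 1 :=
      smul_left_injective F Q.v_ne (h1.symm.trans (one_smul F Q.v).symm)
    refine iterateFrobenius_inj F p i ?_
    rw [iterateFrobenius_def, iterateFrobenius_def, h2, one_pow]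
  obtain ⟨w, a, he⟩ := (Q.mem_EU_iff h h3).2 (show ap (g2 : HSU B) Q.v = Q.v by rw [hα, hα1, one_smul])
  have hW : Q.W h = P.W h := by rw [HPair.W, HPair.W, hQ]
  have hw : w = 0 := by
    refine Subtype.ext (h.orth_nondeg (Q.nondeg h) _ w.2 fun y hy => ?_)
    have h1 : ap (g2 : HSU B) y ∈ P.W h := g2.2.2 ⟨y, hW ▸ hy⟩
    rw [he, show y = ((⟨y, hy⟩ : Q.W h) : V) from rfl, El_W] at h1
    have h2 : B (w : V) y • Q.v ∈ P.W h := by
      have := (P.W h).sub_mem (hW ▸ hy : y ∈ P.W h) h1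
      rwa [sub_sub_cancel] at this
    have h3' := h.mem_orth.1 h2 _ (hQ ▸ Q.f_mem)
    rwa [smul_right, Q.fv h, mul_one] at h3'
  subst hw
  have ha : (a : F) + σ a = 0 := by simpa using a.2
  have hT : Q.El h 0 a = Q.Tv h ha := by
    rw [show Q.Tv h ha = Q.Tv h ha * Q.El h 0 (Q.parZero h) by rw [El_zero, mul_one], Tv_mul_El]
    exact Q.El_congr h _ _ rfl (by simp [parZero])
  rw [hT] at he
  have hmem : (a : F) ∈ Q.AS h H := ⟨ha, he ▸ g2.2.1⟩
  have hu' : P.tvMob h H hQ ⟨a, hmem⟩ = u := by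
    refine Subtype.ext ?_
    rw [← hg2u]
    exact congrArg (P.toMob h H) (Subtype.ext he.symm)
  exact ⟨⟨a, hmem⟩, fun e => hu1 (by rw [← hu', e, P.tvMob_zero h H hQ]), hu'⟩

omit h3 in
theorem charP_closure : CharP (AlgebraicClosure F) p :=
  (RingHom.charP_iff (algebraMap F (AlgebraicClosure F))
    (algebraMap F (AlgebraicClosure F)).injective p).1 inferInstance

omit h3 in
theorem fix_unique {u : P.mobImage h H} (hu : u ^ p = 1) (hu1 : u ≠ 1)
    {x y : Dickson.Pt (AlgebraicClosure F)} (hx : u • x = x) (hy : u • y = y) : x = y := by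
  have := charP_closure (F := F) p
  exact Dickson.unip_fix_unique p (g := (u : Dickson.Mob (AlgebraicClosure F))) hx hy
    (congrArg Subtype.val hu) fun e => hu1 (Subtype.ext e)

/-- The elements of the characteristic fixing a point of the chord. -/
theorem unCard_toPt {Q : HPair B} (hQ : Q.plane = P.plane) {x : P.Pts}
    (hQx : isoPoint Q.v_ne Q.vv = x.1) :
    Dickson.unCard (P.mobImage h H) p (P.toPt h x) = Nat.card (Q.AS h H) := by
  refine (Nat.card_congr (Equiv.ofBijective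
    (fun c : Q.AS h H => (⟨P.tvMob h H hQ c, P.tvMob_fix h H hQ c hQx, P.tvMob_pow h H p hQ c⟩ :
      {u : P.mobImage h H // u • P.toPt h x = P.toPt h x ∧ u ^ p = 1})) ⟨?_, ?_⟩)).symm
  · intro c d e
    exact P.tvMob_injective h H h3 hQ (congrArg Subtype.val e)
  · rintro ⟨u, hux, hup⟩
    by_cases hu1 : u = 1
    · exact ⟨0, Subtype.ext ((P.tvMob_zero h H hQ).trans hu1.symm)⟩
    obtain ⟨y, hy, hc⟩ := P.exists_transvection h H h3 p hup hu1
    obtain rfl : y = x := P.toPt_injective h (P.fix_unique h H p hup hu1 hy hux)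
    obtain ⟨c, -, hc'⟩ := hc Q hQ hQx
    exact ⟨c, Subtype.ext hc'⟩

variable (htr : ∀ x : P.Pts, ∃ g ∈ P.chordStab h H, g • P.centre.1 = x.1)
include htr

omit h3 in
/-- The chord is one orbit. -/
theorem orbCard_centre :
    Dickson.orbCard (P.mobImage h H) (P.toPt h P.centre) = Nat.card (fixedSub σ) + 1 := by
  rw [Dickson.orbCard, ← card_chord h P]
  refine (Nat.card_congr (Equiv.ofBijective (fun x : P.Pts =>
    (⟨P.toPt h x, ?_⟩ : MulAction.orbit (P.mobImage h H) (P.toPt h P.centre))) ⟨?_, ?_⟩)).symm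
  · obtain ⟨g, hg, e⟩ := htr x
    refine ⟨⟨_, ⟨g, hg⟩, rfl⟩, ?_⟩
    show P.toMob h H ⟨g, hg⟩ • P.toPt h P.centre = _
    rw [toMob_smul]
    exact congrArg _ (Subtype.ext e)
  · exact fun x y e => P.toPt_injective h (congrArg Subtype.val e)
  · rintro ⟨_, ⟨_, g, rfl⟩, rfl⟩
    exact ⟨⟨(g : HSU B) • P.centre.1, P.smul_mem_Pts h H g.2 _⟩,
      Subtype.ext (P.toMob_smul h H g P.centre).symm⟩

omit h3 htr in
/-- The norms of the scalars of the chord stabiliser act through its point stabiliser. -/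
theorem card_norms_dvd_stCard :
    Nat.card ((P.scalars (P.chordStab h H)).map (powMonoidHom (Nat.card (fixedSub σ) + 1))) ∣
      Dickson.stCard (P.mobImage h H) (P.toPt h P.centre) := by
  classical
  let T : Subgroup (P.chordStab h H) :=
    (MulAction.stabilizer (HSU B) P.centre.1).subgroupOf (P.chordStab h H)
  have ex : ∀ g : T, ∃ a : F, ap ((g : P.chordStab h H) : HSU B) P.v = a • P.v :=
    fun g => P.mem_stab_iff.1 g.2
  choose lam hlam using ex
  have huniq : ∀ {g : HSU B} {a b : F}, ap g P.v = a • P.v → ap g P.v = b • P.v → a = b :=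
    fun e e' => smul_left_injective F P.v_ne (e.symm.trans e')
  have hlam0 : ∀ g, lam g ≠ 0 := fun g => scalar_ne_of_v h (hlam g)
  let θ : T →* Fˣ := MonoidHom.mk' (fun g => Units.mk0 _ (hlam0 g) ^ (Nat.card (fixedSub σ) + 1))
    fun g k => by
      rw [← mul_pow]
      refine congrArg (· ^ (Nat.card (fixedSub σ) + 1)) (Units.ext (huniq (hlam (g * k)) ?_))
      show ap (((g : P.chordStab h H) : HSU B) * ((k : P.chordStab h H) : HSU B)) P.v =
        (lam g * lam k) • P.v
      rw [ap_mul, hlam, LinearEquiv.map_smul, hlam, smul_smul, mul_comm]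
  let ρ : T →* Dickson.Mob (AlgebraicClosure F) := (P.toMob h H).comp T.subtype
  have hker : ρ.ker ≤ θ.ker := by
    intro g hg
    have h1 : ProjGenLinGroup.mk ((P.matHom h H).toHomUnits (g : P.chordStab h H)) = 1 :=
      MonoidHom.mem_ker.1 hg
    rw [ProjGenLinGroup.mk_eq_one, GeneralLinearGroup.center_eq_range_scalar] at h1
    obtain ⟨r, hr⟩ := h1
    have h2 : ∀ i, algebraMap F (AlgebraicClosure F) (P.mat ((g : P.chordStab h H) : HSU B) i i) =
        (r : AlgebraicClosure F) := fun i => by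
      have := congrArg (fun M : GL (Fin 2) (AlgebraicClosure F) =>
        (M : Matrix (Fin 2) (Fin 2) (AlgebraicClosure F)) i i) hr
      simp [GeneralLinearGroup.coe_scalar, matHom] at this
      exact this.symm
    have h4 := (algebraMap F (AlgebraicClosure F)).injective ((h2 0).trans (h2 1).symm)
    simp [mat, hlam g, smul_right, P.fv h] at h4
    have h5 : σ (lam g) * B P.v (ap ((g : P.chordStab h H) : HSU B) P.f) = 1 := by
      rw [← smul_left, ← hlam g, ap_eq, P.vf]
    refine MonoidHom.mem_ker.2 (Units.ext ?_)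
    show ((Units.mk0 _ (hlam0 g) ^ (Nat.card (fixedSub σ) + 1) : Fˣ) : F) = 1
    rw [Units.val_pow_eq_pow_val, Units.val_mk0, pow_succ, ← h.invol.apply_eq_pow]
    rw [← h4] at h5
    exact h5
  have hθ : Nat.card θ.range =
      Nat.card ((P.scalars (P.chordStab h H)).map (powMonoidHom (Nat.card (fixedSub σ) + 1))) := by
    congr 2
    ext y
    simp only [MonoidHom.mem_range, Subgroup.mem_map]
    constructor
    · rintro ⟨g, rfl⟩
      exact ⟨_, ⟨_, (g : P.chordStab h H).2, hlam g⟩, rfl⟩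
    · rintro ⟨a, ⟨g, hg, e⟩, rfl⟩
      refine ⟨⟨⟨g, hg⟩, P.mem_stab_iff.2 ⟨_, e⟩⟩, ?_⟩
      show Units.mk0 _ (hlam0 _) ^ _ = a ^ _
      exact congrArg (· ^ _) (Units.ext (huniq (hlam _) e))
  have hρ : Nat.card ρ.range = Dickson.stCard (P.mobImage h H) (P.toPt h P.centre) := by
    refine Nat.card_congr (Equiv.ofBijective (fun u : ρ.range => (⟨⟨u.1, ?_⟩, ?_⟩ :
      {v : P.mobImage h H // v • P.toPt h P.centre = P.toPt h P.centre})) ⟨?_, ?_⟩)
    · obtain ⟨g, e⟩ := u.2
      exact ⟨_, e⟩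
    · obtain ⟨g, e⟩ := u.2
      show (u : Dickson.Mob (AlgebraicClosure F)) • P.toPt h P.centre = _
      rw [← e]
      exact (P.toMob_fix_iff h H (g : P.chordStab h H) P.centre).2 g.2
    · exact fun a b e => Subtype.ext (congrArg
        (fun v : {v : P.mobImage h H // v • P.toPt h P.centre = P.toPt h P.centre} =>
          (v.1 : Dickson.Mob (AlgebraicClosure F))) e)
    · rintro ⟨⟨_, g, rfl⟩, hv⟩
      exact ⟨⟨_, ⟨g, (P.toMob_fix_iff h H g P.centre).1 hv⟩, rfl⟩, rfl⟩
  rw [← hθ, ← hρ, ← Subgroup.index_ker, ← Subgroup.index_ker]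
  exact Subgroup.index_dvd_of_le hker

end HPair

end CfsgLib.LocalEvenB.MinIndexSU
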