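import Cfsg.Agent.Lib.LocalEvenB.MinIndexSU.ThreeIndex.Points
import Cfsg.Agent.Lib.ClassSizes.BurnsideAut
import Mathlib.GroupTheory.SpecificGroups.Cyclic

/-!
What a subgroup of a three-dimensional unitary group meets in the stabiliser of an isotropic point.
-/

set_option autoImplicit false

namespace CfsgLib.LocalEvenB.MinIndexSU

open CfsgLib.Classical CfsgLib.Classical.Herm

variable {F : Type*} [Field F] {V : Type*} [AddCommGroup V] [Module F V] {σ : F →+* F}
  {B : V →ₛₗ[σ] V →ₗ[F] F}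

theorem card_dvd_sub_one {M : Type*} [AddCommGroup M] [Module F M] (G : Subgroup Fˣ)
    (A : AddSubgroup M) [Finite A] (hA : ∀ g ∈ G, ∀ x ∈ A, (g : F) • x ∈ A) :
    Nat.card G ∣ Nat.card A - 1 := by
  classical
  let X := {x : A // x ≠ 0}
  let act : MulAction G X :=
    { smul := fun g x => ⟨⟨((g : Fˣ) : F) • (x.1 : M), hA g g.2 _ x.1.2⟩, fun e => x.2 (Subtype.ext
        ((smul_eq_zero.1 (congrArg Subtype.val e)).resolve_left (Units.ne_zero _)))⟩
      one_smul := fun x => Subtype.ext (Subtype.ext (one_smul F (x.1 : M)))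
      mul_smul := fun g g' x => Subtype.ext (Subtype.ext
        (show (((g * g' : G) : Fˣ) : F) • (x.1 : M) = _ by
          rw [Subgroup.coe_mul, Units.val_mul, mul_smul]; rfl)) }
  have hd := ClassSizes.card_dvd_card_of_free (A := G) (X := X) fun x => by
    refine (Subgroup.eq_bot_iff_forall _).2 fun g hg => ?_
    have e : ((g : Fˣ) : F) • (x.1 : M) = x.1 :=
      congrArg (fun y : X => (y.1 : M)) (MulAction.mem_stabilizer_iff.1 hg)
    have hx : (x.1 : M) ≠ 0 := fun e0 => x.2 (Subtype.ext e0)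
    exact Subtype.ext (Units.ext (smul_left_injective F hx (e.trans (one_smul F _).symm)))
  have : Fintype A := Fintype.ofFinite A
  rwa [show Nat.card X = Nat.card A - 1 by
    rw [Nat.card_eq_fintype_card, Nat.card_eq_fintype_card, Fintype.card_subtype_compl,
      Fintype.card_subtype_eq]] at hd

theorem card_map_pow [Finite F] (G : Subgroup Fˣ) (k : ℕ) :
    Nat.card (G.map (powMonoidHom k)) * Nat.gcd (Nat.card G) k = Nat.card G := by
  have h1 : G.map (powMonoidHom k) = ((powMonoidHom k).range : Subgroup G).map G.subtype := by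
    ext x
    constructor
    · rintro ⟨g, hg, rfl⟩
      exact ⟨⟨g, hg⟩ ^ k, ⟨⟨g, hg⟩, rfl⟩, rfl⟩
    · rintro ⟨_, ⟨g, rfl⟩, rfl⟩
      exact ⟨g, g.2, rfl⟩
  rw [h1, Subgroup.card_map_of_injective G.subtype_injective, IsCyclic.card_powMonoidHom_range,
    Nat.div_mul_cancel (Nat.gcd_dvd_left _ _)]

variable [Finite F] [FiniteDimensional F V] (h : IsHerm B)

namespace HPair

variable (P : HPair B) (H : Subgroup (HSU B))

/-- The scalars of the transvections in the subgroup. -/
def AS : AddSubgroup F where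
  carrier := {c | ∃ hc : c + σ c = 0, P.Tv h hc ∈ H}
  add_mem' := by
    rintro a b ⟨ha, e1⟩ ⟨hb, e2⟩
    refine ⟨by rw [map_add]; linear_combination ha + hb, ?_⟩
    convert H.mul_mem e1 e2 using 1
    refine ap_ext fun y => ?_
    rw [ap_mul, MinIndexSU.T_apply, MinIndexSU.T_apply, MinIndexSU.T_apply, map_add, smul_right,
      P.vv]
    match_scalars <;> ring
  zero_mem' := by
    refine ⟨by simp, ?_⟩
    convert H.one_mem using 1
    exact ap_ext fun y => by simp [MinIndexSU.T_apply, ap_one]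
  neg_mem' := by
    rintro a ⟨ha, e⟩
    refine ⟨by rw [map_neg]; linear_combination -ha, ?_⟩
    convert H.inv_mem e using 1
    refine eq_inv_of_mul_eq_one_left (ap_ext fun y => ?_)
    rw [ap_mul, ap_one, MinIndexSU.T_apply, MinIndexSU.T_apply, map_add, smul_right, P.vv]
    match_scalars <;> ring

/-- The complement components of the Eichler elements in the subgroup. -/
def WS : AddSubgroup (P.W h) where
  carrier := {w | ∃ a, P.El h w a ∈ H}
  add_mem' := by
    rintro w w' ⟨a, e1⟩ ⟨a', e2⟩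
    exact ⟨_, P.El_mul h a a' ▸ H.mul_mem e1 e2⟩
  zero_mem' := ⟨P.parZero h, by rw [El_zero]; exact H.one_mem⟩
  neg_mem' := by
    rintro w ⟨a, e⟩
    obtain ⟨a', e'⟩ := P.El_inv h a
    exact ⟨a', e' ▸ H.inv_mem e⟩

/-- The scalars by which the subgroup moves the centre along its line. -/
def scalars : Subgroup Fˣ where
  carrier := {a | ∃ g ∈ H, ap g P.v = (a : F) • P.v}
  mul_mem' := by
    rintro a b ⟨g, hg, e⟩ ⟨k, hk, e'⟩
    refine ⟨g * k, H.mul_mem hg hk, ?_⟩
    rw [ap_mul, e', LinearEquiv.map_smul, e, smul_smul, Units.val_mul, mul_comm]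
  one_mem' := ⟨1, H.one_mem, by rw [ap_one, Units.val_one, one_smul]⟩
  inv_mem' := by
    rintro a ⟨g, hg, e⟩
    refine ⟨g⁻¹, H.inv_mem hg, ?_⟩
    apply (ap g).injective
    rw [ap_apply_inv, LinearEquiv.map_smul, e, smul_smul, Units.val_inv_eq_inv_val,
      inv_mul_cancel₀ a.ne_zero, one_smul]

theorem AS_le : P.AS h H ≤ skew σ := fun _ ⟨hc, _⟩ => hc

theorem AS_skew {c : F} (hc : c ∈ P.AS h H) : c + σ c = 0 := hc.1

theorem mem_stab_iff {g : HSU B} :
    g ∈ MulAction.stabilizer (HSU B) (isoPoint P.v_ne P.vv) ↔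
      ∃ a : F, ap g P.v = a • P.v :=
  MulAction.mem_stabilizer_iff.trans (isoPoint_congr _ _)

/-- The Eichler elements of the subgroup. -/
theorem card_inf_EU :
    Nat.card (H ⊓ P.EU h : Subgroup (HSU B)) = Nat.card (P.AS h H) * Nat.card (P.WS h H) := by
  rw [← Nat.card_prod]
  have sec : ∀ w : P.WS h H, ∃ a, P.El h w a ∈ H := fun w => w.2
  choose sec hsec using sec
  refine (Nat.card_congr (Equiv.ofBijective (fun p : P.AS h H × P.WS h H =>
    (⟨P.Tv h (P.AS_skew h H p.1.2) * P.El h p.2 (sec p.2),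
      H.mul_mem p.1.2.2 (hsec _), (P.EU h).mul_mem (P.Tv_mem h _) ⟨_, _, rfl⟩⟩ :
        (H ⊓ P.EU h : Subgroup (HSU B)))) ⟨?_, ?_⟩)).symm
  · rintro ⟨⟨c, hc⟩, w⟩ ⟨⟨c', hc'⟩, w'⟩ e
    have e' : P.Tv h (P.AS_skew h H hc) * P.El h w (sec w) =
        P.Tv h (P.AS_skew h H hc') * P.El h w' (sec w') := congrArg Subtype.val e
    rw [Tv_mul_El, Tv_mul_El] at e'
    obtain ⟨e1, e2⟩ := P.El_inj h e'
    obtain rfl : w = w' := Subtype.ext e1
    exact Prod.ext (Subtype.ext (add_left_cancel (show ((sec w : P.Par h w) : F) + c = sec w + c'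
      from e2))) rfl
  · rintro ⟨g, hgH, w, a, rfl⟩
    let w₀ : P.WS h H := ⟨w, a, hgH⟩
    have hc : (a : F) - sec w₀ + σ ((a : F) - sec w₀) = 0 := by
      rw [map_sub]; linear_combination a.2 - (sec w₀).2
    have e : P.El h w a = P.Tv h hc * P.El h w₀ (sec w₀) := by
      rw [Tv_mul_El]
      refine P.El_congr h _ _ rfl ?_
      simp
    refine ⟨⟨⟨_, hc, ?_⟩, w₀⟩, Subtype.ext e.symm⟩
    rw [eq_mul_inv_of_mul_eq e.symm]
    exact H.mul_mem hgH (H.inv_mem (hsec _))

theorem commutator_AS {w w' : P.W h} (hw : w ∈ P.WS h H) (hw' : w' ∈ P.WS h H) :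
    B (w' : V) w - B (w : V) w' ∈ P.AS h H := by
  obtain ⟨a, e⟩ := hw
  obtain ⟨a', e'⟩ := hw'
  have hc : B (w' : V) w - B (w : V) w' + σ (B (w' : V) w - B (w : V) w') = 0 := by
    rw [map_sub, h.symm, h.symm]; ring
  have key : P.El h w a * P.El h w' a' = P.Tv h hc * (P.El h w' a' * P.El h w a) := by
    rw [El_mul, El_mul, Tv_mul_El]
    refine P.El_congr h _ _ (add_comm _ _) ?_
    simp only [parMul]
    ring
  refine ⟨hc, ?_⟩
  rw [eq_mul_inv_of_mul_eq key.symm]
  exact H.mul_mem (H.mul_mem e e') (H.inv_mem (H.mul_mem e' e))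

/-- In characteristic two squares of Eichler elements are transvections. -/
theorem square_AS (h2 : (2 : F) = 0) {w : P.W h} (hw : w ∈ P.WS h H) :
    B (w : V) w ∈ P.AS h H := by
  obtain ⟨a, e⟩ := hw
  have hww : w + w = 0 := by
    rw [← two_smul F w, h2, zero_smul]
  have hc : B (w : V) w + σ (B (w : V) w) = 0 := by
    rw [h.self_fixed]; linear_combination (B (w : V) w) * h2
  refine ⟨hc, ?_⟩
  convert H.mul_mem e e using 1
  rw [show P.Tv h hc = P.Tv h hc * P.El h 0 (P.parZero h) by rw [El_zero, mul_one], Tv_mul_El,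
    El_mul]
  refine P.El_congr h _ _ hww.symm ?_
  simp only [parMul, parZero]
  linear_combination (B (w : V) w - (a : F)) * h2

variable (h3 : Module.finrank F V = 3)
include h3

/-- The stabiliser of the centre in the subgroup. -/
theorem card_stab :
    Nat.card (H ⊓ MulAction.stabilizer (HSU B) (isoPoint P.v_ne P.vv) : Subgroup (HSU B)) =
      Nat.card (H ⊓ P.EU h : Subgroup (HSU B)) * Nat.card (P.scalars H) := by
  set S := (H ⊓ MulAction.stabilizer (HSU B) (isoPoint P.v_ne P.vv) : Subgroup (HSU B))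
  have ex : ∀ g : S, ∃ a : F, ap (g : HSU B) P.v = a • P.v := fun g => P.mem_stab_iff.1 g.2.2
  choose lam hlam using ex
  have huniq : ∀ {g : HSU B} {a b : F}, ap g P.v = a • P.v → ap g P.v = b • P.v → a = b :=
    fun e e' => smul_left_injective F P.v_ne (e.symm.trans e')
  let φ : S →* P.scalars H := MonoidHom.mk'
    (fun g => ⟨Units.mk0 _ (scalar_ne_of_v h (hlam g)), g, g.2.1, hlam g⟩)
    fun g k => Subtype.ext (Units.ext (huniq (hlam (g * k)) (by
      show ap ((g : HSU B) * (k : HSU B)) P.v = (lam g * lam k) • P.v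
      rw [ap_mul, hlam, LinearEquiv.map_smul, hlam, smul_smul, mul_comm])))
  have hsurj : Function.Surjective φ := by
    rintro ⟨a, g, hg, e⟩
    refine ⟨⟨g, hg, P.mem_stab_iff.2 ⟨_, e⟩⟩, Subtype.ext (Units.ext (huniq (hlam _) e))⟩
  have hker : Nat.card φ.ker = Nat.card (H ⊓ P.EU h : Subgroup (HSU B)) := by
    refine Nat.card_congr
      { toFun := fun g => ⟨g.1.1, g.1.2.1, (P.mem_EU_iff h h3).2 (by
          rw [hlam g.1, show lam g.1 = 1 from congrArg (fun z : P.scalars H => ((z : Fˣ) : F))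
            (MonoidHom.mem_ker.1 g.2), one_smul])⟩
        invFun := fun g => ⟨⟨g.1, g.2.1, P.mem_stab_iff.2 ⟨1, by
          rw [one_smul]; exact (P.mem_EU_iff h h3).1 g.2.2⟩⟩, MonoidHom.mem_ker.2 (Subtype.ext
            (Units.ext (huniq (hlam _) (by
              show ap g.1 P.v = (1 : F) • P.v
              rw [one_smul]; exact (P.mem_EU_iff h h3).1 g.2.2))))⟩
        left_inv := fun _ => rfl
        right_inv := fun _ => rfl }
  rw [← Subgroup.card_mul_index φ.ker, Subgroup.index_ker, MonoidHom.range_eq_top.2 hsurj,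
    Subgroup.card_top, hker]

include h in
theorem card_scalars_dvd : Nat.card (P.scalars H) ∣ Nat.card (fixedSub σ) ^ 2 - 1 := by
  rw [← h.invol.card_sq, ← Nat.card_units]
  exact Subgroup.card_subgroup_dvd_card _

theorem scalar_AS {g : HSU B} (hg : g ∈ H) {α : F} (e : ap g P.v = α • P.v) {c : F}
    (hc : c ∈ P.AS h H) : α * σ α * c ∈ P.AS h H := by
  obtain ⟨hc, hcH⟩ := hc
  refine ⟨by rw [map_mul, map_mul, h.invol.invol]; linear_combination (α * σ α) * hc, ?_⟩
  rw [eq_mul_inv_of_mul_eq (conj_Tv h e hc).symm]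
  exact H.mul_mem (H.mul_mem hg hcH) (H.inv_mem hg)

theorem scalar_WS {g : HSU B} (hg : g ∈ H) {α : F} (e : ap g P.v = α • P.v) {w : P.W h}
    (hw : w ∈ P.WS h H) : (σ α * σ α / α) • w ∈ P.WS h H := by
  obtain ⟨a, ha⟩ := hw
  obtain ⟨a', e'⟩ := P.conj_El h h3 e w a
  exact ⟨a', e' ▸ H.mul_mem (H.mul_mem hg ha) (H.inv_mem hg)⟩

theorem card_scalars_AS :
    Nat.card ((P.scalars H).map (powMonoidHom (Nat.card (fixedSub σ) + 1))) ∣
      Nat.card (P.AS h H) - 1 := by
  refine card_dvd_sub_one _ _ ?_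
  rintro _ ⟨a, ⟨g, hg, e⟩, rfl⟩ x hx
  rw [powMonoidHom_apply, smul_eq_mul, Units.val_pow_eq_pow_val, pow_succ',
    ← h.invol.apply_eq_pow]
  exact P.scalar_AS h H h3 hg e hx

theorem card_scalars_WS :
    Nat.card ((P.scalars H).map (powMonoidHom (2 * Nat.card (fixedSub σ) - 1))) ∣
      Nat.card (P.WS h H) - 1 := by
  have : Finite (P.W h) := Module.finite_of_finite F
  refine card_dvd_sub_one _ _ ?_
  rintro _ ⟨a, ⟨g, hg, e⟩, rfl⟩ x hx
  have hq := IsInvol.card_ge_two (σ := σ)
  have : (((a ^ (2 * Nat.card (fixedSub σ) - 1) : Fˣ)) : F) = σ a * σ a / a := by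
    rw [eq_div_iff a.ne_zero, h.invol.apply_eq_pow, Units.val_pow_eq_pow_val, ← pow_succ, ← pow_add]
    congr 1
    omega
  rw [powMonoidHom_apply, this]
  exact P.scalar_WS h H h3 hg e hx

/-- Without transvections the complement components lie on a real line. -/
theorem WS_line (hA : P.AS h H = ⊥) {x : P.W h} (hx : x ∈ P.WS h H) (hx0 : x ≠ 0) {y : P.W h}
    (hy : y ∈ P.WS h H) : ∃ r ∈ fixedSub σ, y = r • x := by
  obtain ⟨e, hee, hspan⟩ := P.exists_unit h h3
  obtain ⟨s, rfl⟩ := hspan x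
  obtain ⟨t, rfl⟩ := hspan y
  have hs : s ≠ 0 := fun e' => hx0 (by rw [e', zero_smul])
  have h0 := P.commutator_AS h H hx hy
  rw [hA, AddSubgroup.mem_bot] at h0
  simp [smul_left, smul_right, hee, sub_eq_zero] at h0
  refine ⟨t / s, ?_, by rw [smul_smul, div_mul_cancel₀ _ hs]⟩
  have hσs : σ s ≠ 0 := fun e' => hs (IsInvol.apply_eq_zero_iff.1 e')
  rw [mem_fixedSub, map_div₀, div_eq_div_iff hσs hs]
  linear_combination h0

theorem WS_line_card (hA : P.AS h H = ⊥) :
    Nat.card (P.WS h H) ≤ Nat.card (fixedSub σ) ∧ (Nat.card (P.WS h H) ≠ 1 →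
      Nat.card ((P.scalars H).map (powMonoidHom (2 * Nat.card (fixedSub σ) - 1))) ∣
        Nat.card (fixedSub σ) - 1) := by
  classical
  have : Finite (P.W h) := Module.finite_of_finite F
  by_cases hbot : ∀ w ∈ P.WS h H, w = 0
  · have h1 : Nat.card (P.WS h H) = 1 :=
      Nat.card_eq_one_iff_unique.2 ⟨⟨fun a b => Subtype.ext ((hbot _ a.2).trans (hbot _ b.2).symm)⟩,
        inferInstance⟩
    exact ⟨by rw [h1]; exact Nat.card_pos, fun h' => absurd h1 h'⟩
  push Not at hbot
  obtain ⟨x, hx, hx0⟩ := hbot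
  refine ⟨?_, fun _ => ?_⟩
  · have ex : ∀ y : P.WS h H, ∃ r : fixedSub σ, (y : P.W h) = (r : F) • x := fun y => by
      obtain ⟨r, hr, e⟩ := P.WS_line h H h3 hA hx hx0 y.2
      exact ⟨⟨r, hr⟩, e⟩
    choose r hr using ex
    exact Nat.card_le_card_of_injective r fun y z e => Subtype.ext (by rw [hr y, hr z, e])
  · have hmem : ∀ m : ((P.scalars H).map (powMonoidHom (2 * Nat.card (fixedSub σ) - 1))),
        ((m : Fˣ) : F) ∈ fixedSub σ := by
      rintro ⟨_, a, ⟨g, hg, e⟩, rfl⟩
      have hq := IsInvol.card_ge_two (σ := σ)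
      have hval : (((a ^ (2 * Nat.card (fixedSub σ) - 1) : Fˣ)) : F) = σ a * σ a / a := by
        rw [eq_div_iff a.ne_zero, h.invol.apply_eq_pow, Units.val_pow_eq_pow_val, ← pow_succ,
          ← pow_add]
        congr 1
        omega
      show (((a ^ (2 * Nat.card (fixedSub σ) - 1) : Fˣ)) : F) ∈ fixedSub σ
      obtain ⟨r, hr, er⟩ := P.WS_line h H h3 hA hx hx0 (P.scalar_WS h H h3 hg e hx)
      rw [hval, smul_left_injective F hx0 er]
      exact hr
    let ψ : ((P.scalars H).map (powMonoidHom (2 * Nat.card (fixedSub σ) - 1))) →* (fixedSub σ)ˣ :=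
      { toFun := fun m => Units.mk0 ⟨_, hmem m⟩ fun e => (m : Fˣ).ne_zero (congrArg Subtype.val e)
        map_one' := Units.ext (Subtype.ext rfl)
        map_mul' := fun _ _ => Units.ext (Subtype.ext rfl) }
    have hψ : Function.Injective ψ := fun m n e =>
      Subtype.ext (Units.ext (congrArg (fun u : (fixedSub σ)ˣ => ((u : fixedSub σ) : F)) e))
    rw [← Nat.card_units, Nat.card_congr (MonoidHom.ofInjective hψ).toEquiv]
    exact Subgroup.card_subgroup_dvd_card _

/-- When the transvections of the subgroup are not all, the complement part is small. -/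
theorem card_WS_lt (h1 : 2 ≤ Nat.card (P.AS h H))
    (hlt : Nat.card (P.AS h H) < Nat.card (fixedSub σ)) :
    Nat.card (P.WS h H) < Nat.card (P.AS h H) * Nat.card (fixedSub σ) := by
  classical
  have : Finite (P.W h) := Module.finite_of_finite F
  by_contra hc
  push Not at hc
  obtain ⟨e, hee, hspan⟩ := P.exists_unit h h3
  have hne : ∀ w : P.W h, w ≠ 0 → B (w : V) w ≠ 0 := by
    intro w hw
    obtain ⟨t, rfl⟩ := hspan w
    have ht : t ≠ 0 := fun e' => hw (by rw [e', zero_smul])
    rw [Submodule.coe_smul, IsHerm.smul_self, hee, mul_one]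
    exact mul_ne_zero ht fun e' => ht (IsInvol.apply_eq_zero_iff.1 e')
  have line : ∀ x ∈ P.WS h H, x ≠ 0 → ∀ r ∈ fixedSub σ, r • x ∈ P.WS h H := by
    intro x hx hx0 r hr
    let φ : P.WS h H →+ P.AS h H := AddMonoidHom.mk'
      (fun y => ⟨_, P.commutator_AS h H hx y.2⟩) fun y z => Subtype.ext (by
        simp only [AddSubgroup.coe_add, Submodule.coe_add, map_add, LinearMap.add_apply]
        ring)
    have ker_line : ∀ y : φ.ker, ∃ s : fixedSub σ, (((y : P.WS h H)) : P.W h) = (s : F) • x := by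
      intro y
      obtain ⟨t, ht⟩ : ∃ t : F, ((y : P.WS h H) : P.W h) = t • x := by
        obtain ⟨u, hu⟩ := hspan x
        obtain ⟨v, hv⟩ := hspan (y : P.WS h H)
        have hu0 : u ≠ 0 := fun e' => hx0 (by rw [hu, e', zero_smul])
        exact ⟨v / u, by rw [hu, hv, smul_smul, div_mul_cancel₀ _ hu0]⟩
      have h0 := congrArg (fun z : P.AS h H => (z : F)) (AddMonoidHom.mem_ker.1 y.2)
      simp [φ, ht, smul_left, smul_right, ← sub_mul, hne x hx0] at h0
      exact ⟨⟨t, by rw [mem_fixedSub]; exact sub_eq_zero.1 h0⟩, ht⟩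
    choose s hs using ker_line
    have hinj : Function.Injective s := fun a b e' =>
      Subtype.ext (Subtype.ext (by rw [hs a, hs b, e']))
    have hk := Nat.card_le_card_of_injective s hinj
    have hr' := Nat.card_le_card_of_injective (Subtype.val : φ.range → P.AS h H)
      Subtype.val_injective
    have hmul := AddSubgroup.card_mul_index φ.ker
    rw [AddSubgroup.index_ker] at hmul
    have heq : Nat.card φ.ker = Nat.card (fixedSub σ) := by
      refine le_antisymm hk ?_
      by_contra hlt'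
      push Not at hlt'
      have hp : 0 < Nat.card φ.range := Nat.card_pos
      have := Nat.mul_lt_mul_of_lt_of_le hlt' hr' (by omega)
      rw [hmul] at this
      rw [mul_comm] at hc
      omega
    have hsurj : Function.Surjective s :=
      ((Nat.bijective_iff_injective_and_card s).2 ⟨hinj, heq⟩).2
    obtain ⟨y, hy⟩ := hsurj ⟨r, hr⟩
    have := hs y
    rw [hy] at this
    exact this ▸ (y : P.WS h H).2
  obtain ⟨x, hx, hx0⟩ : ∃ x ∈ P.WS h H, x ≠ 0 := by
    by_contra hn
    push Not at hn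
    have : Nat.card (P.WS h H) ≤ 1 := Finite.card_le_one_iff_subsingleton.2
      ⟨fun a b => Subtype.ext ((hn _ a.2).trans (hn _ b.2).symm)⟩
    have := Nat.mul_le_mul h1 (IsInvol.card_ge_two (σ := σ))
    omega
  obtain ⟨u, rfl⟩ := hspan x
  have hu : u ≠ 0 := fun e' => hx0 (by rw [e', zero_smul])
  obtain ⟨t, ht, hyt⟩ : ∃ t : F, t ∉ fixedSub σ ∧ t • u • e ∈ P.WS h H := by
    by_contra hn
    push Not at hn
    have ex : ∀ y : P.WS h H, ∃ r : fixedSub σ, (y : P.W h) = (r : F) • u • e := fun y => by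
      obtain ⟨v, hv⟩ := hspan y
      refine ⟨⟨v / u, by_contra fun hf => hn (v / u) hf ?_⟩, ?_⟩
      · rw [smul_smul, div_mul_cancel₀ _ hu, ← hv]; exact y.2
      · exact hv.trans (by rw [smul_smul, div_mul_cancel₀ _ hu])
    choose r hr using ex
    have := Nat.card_le_card_of_injective r fun y z e' => Subtype.ext (by rw [hr y, hr z, e'])
    have := Nat.mul_le_mul_right (Nat.card (fixedSub σ)) h1
    have := IsInvol.card_ge_two (σ := σ)
    omega
  have hy0 : t • u • e ≠ 0 := smul_ne_zero (fun e' => ht (by rw [e']; exact zero_mem _)) hx0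
  have hmem : ∀ r : fixedSub σ, (r : F) * (σ t - t) * B ((u • e : P.W h) : V) (u • e : P.W h) ∈
      P.AS h H := by
    intro r
    have := P.commutator_AS h H hx (line _ hyt hy0 r r.2)
    convert this using 1
    simp only [Submodule.coe_smul, smul_left, smul_right, map_mul, show σ (r : F) = r from r.2]
    ring
  have hk : (σ t - t) * B ((u • e : P.W h) : V) (u • e : P.W h) ≠ 0 :=
    mul_ne_zero (fun e' => ht (by rw [mem_fixedSub]; exact sub_eq_zero.1 e')) (hne _ hx0)
  have := Nat.card_le_card_of_injective (fun r : fixedSub σ => (⟨_, hmem r⟩ : P.AS h H))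
    fun r r' e' => Subtype.ext (mul_right_cancel₀ hk (by
      have e'' := congrArg Subtype.val e'
      linear_combination e''))
  omega

/-- In characteristic two with a single transvection the complement part has at most four elements. -/
theorem card_WS_le_four (h2 : (2 : F) = 0) {t : F}
    (hA : ∀ c ∈ P.AS h H, c = 0 ∨ c = t) : Nat.card (P.WS h H) ≤ 4 := by
  classical
  obtain ⟨e, hee, hspan⟩ := P.exists_unit h h3
  have key : ∀ y ∈ P.WS h H, ∀ s : F, y = s • e → s = 0 ∨ s * σ s = t := by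
    rintro y hy s rfl
    by_cases hs : s = 0
    · exact Or.inl hs
    refine Or.inr ((hA _ (P.square_AS h H h2 hy)).elim (fun e0 => ?_) fun e0 => ?_)
    · rw [Submodule.coe_smul, IsHerm.smul_self, hee, mul_one] at e0
      exact absurd e0 (mul_ne_zero hs fun e' => hs (IsInvol.apply_eq_zero_iff.1 e'))
    · rw [Submodule.coe_smul, IsHerm.smul_self, hee, mul_one] at e0
      exact e0
  by_cases hn : ∀ y ∈ P.WS h H, y = 0
  · have : Nat.card (P.WS h H) = 1 :=
      Nat.card_eq_one_iff_unique.2 ⟨⟨fun a b => Subtype.ext ((hn _ a.2).trans (hn _ b.2).symm)⟩,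
        inferInstance⟩
    omega
  push Not at hn
  obtain ⟨x, hx, hx0⟩ := hn
  obtain ⟨u, rfl⟩ := hspan x
  have hu : u ≠ 0 := fun e' => hx0 (by rw [e', zero_smul])
  have hut : u * σ u = t := (key _ hx u rfl).resolve_left hu
  have good : ∀ r : F, r • u • e ∈ P.WS h H → r = 0 ∨ r = 1 ∨ r * r + r + 1 = 0 := by
    intro r hr
    by_cases hr0 : r = 0
    · exact Or.inl hr0
    by_cases hr1 : r = 1
    · exact Or.inr (Or.inl hr1)
    have e1 := (key _ hr (r * u) (smul_smul r u e)).resolve_left (mul_ne_zero hr0 hu)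
    have e2 := (key _ (add_mem hr hx) ((r + 1) * u) (by rw [add_mul, one_mul, add_smul, smul_smul]))
      |>.resolve_left (mul_ne_zero (fun e' => hr1 (by linear_combination e' - h2)) hu)
    have ht0 : t ≠ 0 := hut ▸ mul_ne_zero hu fun e' => hu (IsInvol.apply_eq_zero_iff.1 e')
    simp only [map_mul, map_add, map_one] at e1 e2
    have f1 : r * σ r = 1 := mul_right_cancel₀ ht0 (by linear_combination e1 + (-(r * σ r)) * hut)
    have f2 : (r + 1) * (σ r + 1) = 1 :=
      mul_right_cancel₀ ht0 (by linear_combination e2 - (r + 1) * (σ r + 1) * hut)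
    exact Or.inr (Or.inr (by linear_combination r * f2 - (r + 1) * f1))
  have ex : ∀ y : P.WS h H, ∃ r : F, (y : P.W h) = r • u • e := fun y => by
    obtain ⟨v, hv⟩ := hspan y
    exact ⟨v / u, by rw [smul_smul, div_mul_cancel₀ _ hu, hv]⟩
  choose r hr using ex
  have hinj : Function.Injective r := fun a b e' => Subtype.ext (by rw [hr a, hr b, e'])
  have : Finite (P.W h) := Module.finite_of_finite F
  have : Fintype (P.WS h H) := Fintype.ofFinite _
  rw [Nat.card_eq_fintype_card, ← Finset.card_univ,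
    ← Finset.card_image_of_injective _ hinj]
  by_cases hroot : ∃ y, r y ≠ 0 ∧ r y ≠ 1
  · obtain ⟨y, hy0, hy1⟩ := hroot
    have hy := ((good _ (hr y ▸ y.2)).resolve_left hy0).resolve_left hy1
    refine (Finset.card_le_card (t := {0, 1, r y, r y + 1}) ?_).trans Finset.card_le_four
    intro a ha
    obtain ⟨z, -, rfl⟩ := Finset.mem_image.1 ha
    simp only [Finset.mem_insert, Finset.mem_singleton]
    rcases good _ (hr z ▸ z.2) with h' | h' | h'
    · exact Or.inl h'
    · exact Or.inr (Or.inl h')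
    · rcases mul_eq_zero.1 (show (r z - r y) * (r z + r y + 1) = 0 by linear_combination h' - hy) with
        e' | e'
      · exact Or.inr (Or.inr (Or.inl (sub_eq_zero.1 e')))
      · exact Or.inr (Or.inr (Or.inr (by linear_combination e' - (r y + 1) * h2)))
  · push Not at hroot
    refine (Finset.card_le_card (t := {0, 1}) ?_).trans (Finset.card_le_two.trans (by norm_num))
    intro a ha
    obtain ⟨z, -, rfl⟩ := Finset.mem_image.1 ha
    by_cases h0 : r z = 0
    · simp [h0]
    · simp [hroot z h0]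

end HPair

end CfsgLib.LocalEvenB.MinIndexSU
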