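import Cfsg.Agent.Lib.LocalEvenB.MinIndexSU.ThreeIndex.Singer
import Cfsg.Agent.Lib.LocalEvenB.MinIndexSU.Main

/-!
The minimal index of a proper subgroup of a three-dimensional special unitary group.
-/

set_option autoImplicit false

namespace CfsgLib.LocalEvenB.MinIndexSU

open CfsgLib.Classical CfsgLib.Classical.Herm

theorem Pn_three {q : ℕ} (hq : 2 ≤ q) : Pn q 3 = q ^ 3 + 1 := by
  have h2 : 2 ^ 2 ≤ q ^ 2 := Nat.pow_le_pow_left hq 2
  rw [Pn, ordFactor, ordFactor, if_pos (by decide), if_neg (by decide)]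
  refine Nat.div_eq_of_eq_mul_left (by omega) ?_
  norm_num

variable {F : Type*} [Field F] {V : Type*} [AddCommGroup V] [Module F V] {σ : F →+* F}
  {B : V →ₛₗ[σ] V →ₗ[F] F} [Finite F] [FiniteDimensional F V] (h : IsHerm B)
  (h3 : Module.finrank F V = 3)
include h h3

/-- A proper subgroup containing the centre has index above `q ^ 3`, except over five. -/
theorem le_index_three (hq : 3 ≤ Nat.card (fixedSub σ)) (H : Subgroup (HSU B)) (hH : H ≠ ⊤)
    (hZ : Subgroup.center (HSU B) ≤ H) :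
    Nat.card (fixedSub σ) ^ 3 + 1 ≤ H.index ∨ (Nat.card (fixedSub σ) = 5 ∧ 50 ≤ H.index) := by
  by_contra hn
  rw [not_or, not_le, Nat.lt_succ_iff] at hn
  rcases cases_of_index h h3 hq H hH hn.1 with h5 | ⟨P, s, c, hs, hc, hcard, hex⟩
  · exact hn.2 h5
  · exact exception_false h h3 H hn.1 hZ hs hc hcard hex

end CfsgLib.LocalEvenB.MinIndexSU
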