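import Cfsg.Agent.Lib.LocalEvenB.MinIndexSU.ThreeIndex.Local
import Mathlib.GroupTheory.PGroup

/-!
A subgroup of index at most `q ^ 3` is transitive on isotropic points.
-/

set_option autoImplicit false

namespace CfsgLib.LocalEvenB.MinIndexSU

open CfsgLib.Classical CfsgLib.Classical.Herm
open scoped Pointwise

variable {F : Type*} [Field F] {V : Type*} [AddCommGroup V] [Module F V] {σ : F →+* F}
  {B : V →ₛₗ[σ] V →ₗ[F] F} [Finite F] [FiniteDimensional F V] (h : IsHerm B)
  (h3 : Module.finrank F V = 3)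
include h h3

/-- Every isotropic point is the centre of a pair. -/
theorem exists_pair_of_point (x : isoPts B) : ∃ P : HPair B, isoPoint P.v_ne P.vv = x := by
  obtain ⟨u, hu, huu, rfl⟩ := exists_isoPoint_eq x
  obtain ⟨f, huf, hff⟩ := h.exists_isotropic_partner hu huu
  exact ⟨⟨u, f, huu, hff, huf⟩, rfl⟩

theorem exists_map_point (P P' : HPair B) : ∃ g : HSU B, ap g P.v = P'.v :=
  exists_map h (by omega) P.v_ne P'.v_ne (by rw [P.vv, P'.vv])

theorem isPretransitive_points : MulAction.IsPretransitive (HSU B) (isoPts B) :=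
  (h.isPreprimitive (V := V) (by omega)).toIsPretransitive

namespace HPair

/-- A non-trivial Eichler element fixes only its centre. -/
theorem EU_fix_unique (P : HPair B) {u : HSU B} (hu : u ∈ P.EU h) {z : isoPts B}
    (hz : u • z = z) (hne : z ≠ isoPoint P.v_ne P.vv) : u = 1 := by
  obtain ⟨w, hw, hww, rfl⟩ := exists_isoPoint_eq z
  have hv := (P.mem_EU_iff h h3).1 hu
  obtain ⟨Q, hQv, s, hs, hQf⟩ := HPair.exists_of_points h P.vv hww
    (perp_ne_zero h h3 P.v_ne P.vv hww fun a e =>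
      hne ((isoPoint_eq_iff hw hww P.v_ne P.vv).2 ⟨a, e.symm⟩))
  obtain ⟨b, hb⟩ := (isoPoint_congr hw hww).1 hz
  have hb' : ap u Q.f = b • Q.f := by rw [hQf, LinearEquiv.map_smul, hb, smul_comm]
  have hb1 : b = 1 := by
    have := ap_eq u Q.v Q.f
    rwa [hb', hQv, hv, smul_right, ← hQv, Q.vf, mul_one] at this
  exact HPair.Diag.eq_one h h3 (P := Q) ⟨by rw [hQv, hv, one_smul], by
    rw [hb', hb1, map_one, inv_one]⟩

end HPair

theorem card_stab_top (P : HPair B) :
    Nat.card (MulAction.stabilizer (HSU B) (isoPoint P.v_ne P.vv)) =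
      Nat.card (fixedSub σ) ^ 3 * (Nat.card (fixedSub σ) ^ 2 - 1) := by
  have := P.card_stab h ⊤ h3
  rw [top_inf_eq, top_inf_eq, P.card_EU h (d := 1) h3] at this
  have htop : P.scalars (⊤ : Subgroup (HSU B)) = ⊤ := by
    refine top_le_iff.1 fun a _ => ?_
    obtain ⟨g, hg⟩ := P.exists_levi h (by rw [P.finrank_W_one h h3]) a.ne_zero
    exact ⟨g, trivial, hg.v⟩
  rw [this, htop, Subgroup.card_top, Nat.card_units, h.invol.card_sq]

theorem card_HSU_three : Nat.card (HSU B) =
    (Nat.card (fixedSub σ) ^ 3 + 1) *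
      (Nat.card (fixedSub σ) ^ 3 * (Nat.card (fixedSub σ) ^ 2 - 1)) := by
  obtain ⟨u, hu, huu⟩ := h.exists_isotropic (by omega)
  obtain ⟨P, hP⟩ := exists_pair_of_point h h3 (isoPoint hu huu)
  have := isPretransitive_points h h3
  rw [← card_isoPts h h3, ← card_stab_top h h3 P,
    ← MulAction.index_stabilizer_of_transitive (HSU B) (isoPoint P.v_ne P.vv), mul_comm,
    Subgroup.card_mul_index]

variable (H : Subgroup (HSU B))

/-- A trivial meet with one Eichler group makes all meets trivial. -/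
theorem inf_EU_bot_all (hN : H.index ≤ Nat.card (fixedSub σ) ^ 3) {P : HPair B}
    (hP : H ⊓ P.EU h = ⊥) (P' : HPair B) : H ⊓ P'.EU h = ⊥ := by
  classical
  have : Finite V := Module.finite_of_finite F
  have := finite_HSU (B := B)
  set ω : HSU B ⧸ H := QuotientGroup.mk 1 with hω
  have hfree : ∀ u ∈ P.EU h, u • ω = ω → u = 1 := by
    intro u hu e
    rw [hω, MulAction.Quotient.smul_mk, QuotientGroup.eq] at e
    have : u ∈ H := by simpa using H.inv_mem e
    exact (Subgroup.mem_bot).1 (hP ▸ ⟨this, hu⟩)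
  have hinj : Function.Injective (fun u : P.EU h => (u : HSU B) • ω) := by
    intro a b e
    have := hfree ((b : HSU B)⁻¹ * a) ((P.EU h).mul_mem ((P.EU h).inv_mem b.2) a.2)
      (by rw [mul_smul, inv_smul_eq_iff]; exact e)
    exact (Subtype.ext (inv_mul_eq_one.1 this)).symm
  have hbij := hinj.bijective_of_nat_card_le (by
    rw [P.card_EU h (d := 1) h3]
    exact hN)
  obtain ⟨g, hg⟩ := exists_map_point h h3 P' P
  obtain ⟨⟨u, hu⟩, hu' : u • ω = QuotientGroup.mk g⟩ := hbij.2 (QuotientGroup.mk g)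
  rw [hω, MulAction.Quotient.smul_mk, QuotientGroup.eq, smul_eq_mul, mul_one] at hu'
  refine (Subgroup.eq_bot_iff_forall _).2 fun k hk => ?_
  have hk' : g * k * g⁻¹ ∈ P.EU h := (P.mem_EU_iff h h3).2 (by
    rw [ap_mul, ap_mul, show ap g⁻¹ P.v = P'.v by rw [← hg, ap_inv_apply],
      (P'.mem_EU_iff h h3).1 hk.2, hg])
  have hmem : u⁻¹ * (g * k * g⁻¹) * u ∈ H := by
    have e : u⁻¹ * (g * k * g⁻¹) * u = (u⁻¹ * g) * k * (u⁻¹ * g)⁻¹ := by group
    rw [e]
    exact H.mul_mem (H.mul_mem hu' hk.1) (H.inv_mem hu')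
  have h1 : u⁻¹ * (g * k * g⁻¹) * u = 1 := Subgroup.mem_bot.1
    (hP ▸ ⟨hmem, (P.EU h).mul_mem ((P.EU h).mul_mem ((P.EU h).inv_mem hu) hk') hu⟩)
  exact conj_eq_one_iff.1 (conj_eq_one_iff.1 (show u⁻¹ * (g * k * g⁻¹) * u⁻¹⁻¹ = 1 by rwa [inv_inv]))

theorem card_scalars_le (P : HPair B) :
    Nat.card (P.scalars H) ≤ Nat.card (fixedSub σ) ^ 2 - 1 := by
  have h4 : 2 ^ 2 ≤ Nat.card (fixedSub σ) ^ 2 :=
    Nat.pow_le_pow_left (IsInvol.card_ge_two (σ := σ)) 2
  exact Nat.le_of_dvd (by omega) (P.card_scalars_dvd h H h3)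

/-- A subgroup of index at most `q ^ 3` is transitive on isotropic points. -/
theorem exists_mem_map (hN : H.index ≤ Nat.card (fixedSub σ) ^ 3) (x y : isoPts B) :
    ∃ g ∈ H, g • x = y := by
  classical
  have : Finite V := Module.finite_of_finite F
  have := finite_HSU (B := B)
  have : Finite (isoPts B) := Nat.finite_of_card_ne_zero (by rw [card_isoPts h h3]; omega)
  suffices key : ∀ z, MulAction.orbit H z = Set.univ by
    obtain ⟨g, hg⟩ : y ∈ MulAction.orbit H x := key x ▸ Set.mem_univ y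
    exact ⟨g, g.2, hg⟩
  intro z
  by_contra hz
  obtain ⟨P, rfl⟩ := exists_pair_of_point h h3 z
  set x := isoPoint P.v_ne P.vv
  by_cases hbot : H ⊓ P.EU h = ⊥
  · have h1 := P.card_stab h H h3
    rw [hbot, Subgroup.card_bot, one_mul] at h1
    have h2 : Nat.card (MulAction.stabilizer H x) = Nat.card (P.scalars H) := by
      rw [← h1]
      exact Nat.card_congr
        { toFun := fun g => ⟨g.1.1, g.1.2, g.2⟩
          invFun := fun g => ⟨⟨g.1, g.2.1⟩, g.2.2⟩
          left_inv := fun _ => rfl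
          right_inv := fun _ => rfl }
    have h5 := Subgroup.card_mul_index (MulAction.stabilizer H x)
    rw [MulAction.index_stabilizer, h2] at h5
    have h6 := Subgroup.card_mul_index H
    rw [card_HSU_three h h3, ← h5] at h6
    have h7 : (MulAction.orbit H x).ncard < Nat.card (fixedSub σ) ^ 3 + 1 := by
      rw [← card_isoPts h h3, ← Set.ncard_univ]
      exact Set.ncard_lt_ncard (lt_of_le_of_ne (Set.subset_univ _) hz)
    have h8 := card_scalars_le h h3 H P
    have hq3 : 0 < Nat.card (fixedSub σ) ^ 3 := pow_pos (by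
      have := IsInvol.card_ge_two (σ := σ); omega) _
    have hq2 : 0 < Nat.card (fixedSub σ) ^ 2 - 1 := by
      have := Nat.pow_le_pow_left (IsInvol.card_ge_two (σ := σ)) 2; omega
    have h9 : Nat.card (P.scalars H) * (MulAction.orbit H x).ncard * H.index ≤
        (Nat.card (fixedSub σ) ^ 2 - 1) * (MulAction.orbit H x).ncard *
          Nat.card (fixedSub σ) ^ 3 :=
      Nat.mul_le_mul (Nat.mul_le_mul_right _ h8) hN
    have h10 := Nat.mul_lt_mul_of_pos_right (Nat.mul_lt_mul_of_pos_left h7 hq2) hq3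
    rw [h6] at h9
    have h11 := h9.trans_lt h10
    simp only [mul_comm, mul_left_comm] at h11
    exact lt_irrefl _ h11
  · obtain ⟨p, hpc⟩ := CharP.exists F
    have : Fact p.Prime := ⟨CharP.char_is_prime F p⟩
    have hpU : ∀ Q : HPair B, IsPGroup p (H ⊓ Q.EU h : Subgroup (HSU B)) := fun Q => by
      refine IsPGroup.to_le ?_ inf_le_right
      have : Fintype F := Fintype.ofFinite F
      obtain ⟨n, -, hn⟩ := FiniteField.card F p
      obtain ⟨j, -, hj⟩ : ∃ j ≤ (n : ℕ), Nat.card (fixedSub σ) = p ^ j := by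
        refine (Nat.dvd_prime_pow Fact.out).1 ?_
        rw [← hn, ← Nat.card_eq_fintype_card, h.invol.card_sq]
        exact dvd_pow_self _ two_ne_zero
      refine IsPGroup.of_card (n := j * 3) ?_
      rw [Q.card_EU h (d := 1) h3, hj, ← pow_mul]
    have hfix : ∀ (Q : HPair B), H ⊓ Q.EU h ≠ ⊥ → ∀ O : Set (isoPts B),
        (∀ g ∈ H, ∀ w ∈ O, g • w ∈ O) →
        (O.ncard : ℕ) ≡ (if isoPoint Q.v_ne Q.vv ∈ O then 1 else 0) [MOD p] := by
      intro Q hQ O hO
      let act : MulAction (H ⊓ Q.EU h : Subgroup (HSU B)) O :=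
        { smul := fun g w => ⟨(g : HSU B) • (w : isoPts B), hO _ g.2.1 _ w.2⟩
          one_smul := fun w => Subtype.ext (one_smul _ _)
          mul_smul := fun g k w => Subtype.ext (mul_smul _ _ _) }
      have hmod := (hpU Q).card_modEq_card_fixedPoints O
      rw [Nat.card_coe_set_eq] at hmod
      refine hmod.trans (congrArg (· % p) ?_)
      obtain ⟨k, hk, hk1⟩ := (Subgroup.bot_or_exists_ne_one _).resolve_left hQ
      have hall : ∀ w : MulAction.fixedPoints (H ⊓ Q.EU h : Subgroup (HSU B)) O,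
          ((w : O) : isoPts B) = isoPoint Q.v_ne Q.vv := fun w => by
        by_contra hne
        exact hk1 (Q.EU_fix_unique h h3 hk.2 (congrArg Subtype.val (w.2 ⟨k, hk⟩)) hne)
      have : Subsingleton (MulAction.fixedPoints (H ⊓ Q.EU h : Subgroup (HSU B)) O) :=
        ⟨fun a b => Subtype.ext (Subtype.ext ((hall a).trans (hall b).symm))⟩
      split_ifs with hx
      · refine Nat.card_eq_one_iff_unique.2 ⟨this, ⟨⟨⟨_, hx⟩, fun g => Subtype.ext ?_⟩⟩⟩
        show (g : HSU B) • isoPoint Q.v_ne Q.vv = isoPoint Q.v_ne Q.vv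
        exact smul_isoPoint Q.v_ne Q.vv Q.v_ne Q.vv ((Q.mem_EU_iff h h3).1 g.2.2)
      · have : IsEmpty (MulAction.fixedPoints (H ⊓ Q.EU h : Subgroup (HSU B)) O) :=
          ⟨fun w => hx (hall w ▸ (w : O).2)⟩
        exact Nat.card_of_isEmpty
    obtain ⟨y', hy'⟩ := (Set.ne_univ_iff_exists_notMem _).1 hz
    obtain ⟨Q, rfl⟩ := exists_pair_of_point h h3 y'
    have hinv : ∀ g ∈ H, ∀ w ∈ MulAction.orbit H x, g • w ∈ MulAction.orbit H x :=
      fun g hg w hw => MulAction.mem_orbit_of_mem_orbit (⟨g, hg⟩ : H) hw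
    have h1 := hfix P hbot _ hinv
    rw [if_pos (MulAction.mem_orbit_self x)] at h1
    have h2 := hfix Q (fun e => hbot (inf_EU_bot_all h h3 H hN e P)) _ hinv
    rw [if_neg hy'] at h2
    have h3' : (1 : ℕ) ≡ 0 [MOD p] := h1.symm.trans h2
    exact (Fact.out : p.Prime).one_lt.ne' (Nat.dvd_one.1 ((Nat.modEq_zero_iff_dvd).1 h3'))

/-- The order and index in terms of a point stabiliser. -/
theorem index_mul (hN : H.index ≤ Nat.card (fixedSub σ) ^ 3) (P : HPair B) :
    Nat.card H = (Nat.card (fixedSub σ) ^ 3 + 1) *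
        (Nat.card (P.AS h H) * Nat.card (P.WS h H) * Nat.card (P.scalars H)) ∧
      H.index * (Nat.card (P.AS h H) * Nat.card (P.WS h H) * Nat.card (P.scalars H)) =
        Nat.card (fixedSub σ) ^ 3 * (Nat.card (fixedSub σ) ^ 2 - 1) := by
  classical
  have : Finite V := Module.finite_of_finite F
  have := finite_HSU (B := B)
  set x := isoPoint P.v_ne P.vv
  have htr : MulAction.IsPretransitive H (isoPts B) := ⟨fun a b => by
    obtain ⟨g, hg, e⟩ := exists_mem_map h h3 H hN a b
    exact ⟨⟨g, hg⟩, e⟩⟩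
  have h1 := P.card_stab h H h3
  rw [P.card_inf_EU h H] at h1
  have h2 : Nat.card (MulAction.stabilizer H x) =
      Nat.card (P.AS h H) * Nat.card (P.WS h H) * Nat.card (P.scalars H) := by
    rw [← h1]
    exact Nat.card_congr
      { toFun := fun g => ⟨g.1.1, g.1.2, g.2⟩
        invFun := fun g => ⟨⟨g.1, g.2.1⟩, g.2.2⟩
        left_inv := fun _ => rfl
        right_inv := fun _ => rfl }
  have h5 := Subgroup.card_mul_index (MulAction.stabilizer H x)
  rw [MulAction.index_stabilizer_of_transitive, card_isoPts h h3, h2] at h5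
  refine ⟨by rw [← h5, mul_comm], ?_⟩
  have h6 := Subgroup.card_mul_index H
  rw [card_HSU_three h h3, ← h5] at h6
  apply Nat.eq_of_mul_eq_mul_left (show 0 < Nat.card (fixedSub σ) ^ 3 + 1 by omega)
  linarith

/-- The transvection groups of the subgroup all have the same order. -/
theorem card_AS_eq (hN : H.index ≤ Nat.card (fixedSub σ) ^ 3) (P P' : HPair B) :
    Nat.card (P.AS h H) = Nat.card (P'.AS h H) := by
  suffices key : ∀ P P' : HPair B, Nat.card (P.AS h H) ≤ Nat.card (P'.AS h H) from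
    le_antisymm (key P P') (key P' P)
  intro P P'
  obtain ⟨g, hg, e⟩ := exists_mem_map h h3 H hN (isoPoint P.v_ne P.vv) (isoPoint P'.v_ne P'.vv)
  have hgv : ap g P.v ≠ 0 := by simpa using P.v_ne
  rw [smul_isoPoint (g := g) P.v_ne P.vv hgv (by rw [ap_eq, P.vv]) rfl, isoPoint_eq_iff] at e
  obtain ⟨s, hs⟩ := e
  have hs0 : s ≠ 0 := fun e0 => hgv (by rw [← hs, e0, zero_smul])
  have key' : ∀ c : P.AS h H, s * σ s * c ∈ P'.AS h H := by
    rintro ⟨c, hc, hcH⟩
    have hc' : s * σ s * c + σ (s * σ s * c) = 0 := by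
      rw [map_mul, map_mul, h.invol.invol]; linear_combination (s * σ s) * hc
    refine ⟨hc', ?_⟩
    convert H.mul_mem (H.mul_mem hg hcH) (H.inv_mem hg) using 1
    refine eq_mul_inv_of_mul_eq (ap_ext fun y => ?_)
    simp only [ap_mul, MinIndexSU.T_apply, map_add, LinearEquiv.map_smul]
    rw [← ap_eq g P.v y, ← hs, smul_left, smul_smul]
    match_scalars <;> ring
  have hs2 : s * σ s ≠ 0 := mul_ne_zero hs0 fun e => hs0 (IsInvol.apply_eq_zero_iff.1 e)
  exact Nat.card_le_card_of_injective (fun c => (⟨_, key' c⟩ : P'.AS h H))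
    fun a b e => Subtype.ext (mul_left_cancel₀ hs2 (congrArg Subtype.val e))

/-- With all transvections the subgroup is everything. -/
theorem eq_top_of_full (hq : Nat.card (fixedSub σ) ≠ 2)
    (hA : ∀ P : HPair B, Nat.card (P.AS h H) = Nat.card (fixedSub σ)) : H = ⊤ := by
  have htr : h.trGroup ≤ H.map (HSU B).subtype := by
    rw [IsHerm.trGroup, Subgroup.closure_le]
    rintro _ ⟨u, hu, c, hc, rfl⟩
    refine ⟨MinIndexSU.T h hu hc, ?_, rfl⟩
    rcases eq_or_ne u 0 with rfl | hu0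
    · rw [show MinIndexSU.T h hu hc = 1 from
        ap_ext fun y => by rw [MinIndexSU.T_apply, smul_zero, add_zero, ap_one]]
      exact H.one_mem
    obtain ⟨f, huf, hff⟩ := h.exists_isotropic_partner hu0 hu
    let P : HPair B := ⟨u, f, hu, hff, huf⟩
    have : Finite (skew σ) := inferInstance
    have heq : P.AS h H = skew σ := SetLike.coe_injective
      (Set.eq_of_subset_of_ncard_le (P.AS_le h H) (le_of_eq (by
        rw [← Nat.card_coe_set_eq, ← Nat.card_coe_set_eq]
        exact (card_skew h).trans (hA P).symm)) (Set.toFinite _))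
    exact (heq ▸ hc : c ∈ P.AS h H).2
  rw [h.trGroup_eq (by omega) (fun _ => hq)] at htr
  refine top_le_iff.1 fun g _ => ?_
  obtain ⟨k, hk, e⟩ := htr g.2
  rwa [← Subtype.ext (show ((k : HSU B) : HU B) = (g : HU B) from e)]

end CfsgLib.LocalEvenB.MinIndexSU
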