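import Cfsg.Agent.Lib.LocalEvenB.MinIndexSU.Pair

/-!
Isotropic points of a three-dimensional unitary space and the stabiliser of one of them.
-/

set_option autoImplicit false

namespace CfsgLib.LocalEvenB.MinIndexSU

open CfsgLib.Classical CfsgLib.Classical.Herm

variable {F : Type*} [Field F] {V : Type*} [AddCommGroup V] [Module F V] {σ : F →+* F}
  {B : V →ₛₗ[σ] V →ₗ[F] F}

theorem isoPoint_congr {g : HSU B} {u : V} (hu : u ≠ 0) (huu : B u u = 0) :
    g • isoPoint hu huu = isoPoint hu huu ↔ ∃ a : F, ap g u = a • u := by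
  rw [smul_isoPoint (g := g) hu huu (v := ap g u) (by simpa using hu)
    (by rw [ap_eq]; exact huu) rfl, isoPoint_eq_iff]
  exact exists_congr fun a => eq_comm

/-- Isotropic vectors over a set of isotropic points, counted with their multiples. -/
theorem card_points_mul [Finite F] [FiniteDimensional F V] (Q : V → Prop)
    (hQ : ∀ (a : F) (u : V), a ≠ 0 → (Q (a • u) ↔ Q u)) :
    Nat.card {p : isoPts B // Q p.1.rep} * (Nat.card F - 1) =
      Nat.card {u : V // u ≠ 0 ∧ B u u = 0 ∧ Q u} := by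
  classical
  have : Finite V := Module.finite_of_finite F
  have : Fintype F := Fintype.ofFinite F
  have hR : Nat.card {a : F // a ≠ 0} = Nat.card F - 1 := by
    rw [Nat.card_eq_fintype_card, Nat.card_eq_fintype_card, Fintype.card_subtype_compl,
      Fintype.card_subtype_eq]
  rw [← hR, ← Nat.card_prod]
  refine Nat.card_congr (Equiv.ofBijective
    (fun p : {p : isoPts B // Q p.1.rep} × {a : F // a ≠ 0} =>
      (⟨(p.2 : F) • p.1.1.1.rep, smul_ne_zero p.2.2 p.1.1.1.rep_nonzero, by
        rw [smul_left, smul_right, show B p.1.1.1.rep p.1.1.1.rep = 0 from p.1.1.2, mul_zero,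
          mul_zero], (hQ _ _ p.2.2).2 p.1.2⟩ : {u : V // u ≠ 0 ∧ B u u = 0 ∧ Q u})) ⟨?_, ?_⟩)
  · rintro ⟨⟨p, hp⟩, a, ha⟩ ⟨⟨r, hr⟩, b, hb⟩ e
    have e' : a • p.1.rep = b • r.1.rep := congrArg Subtype.val e
    have hpr : p = r := by
      refine Subtype.ext ?_
      rw [← p.1.mk_rep, ← r.1.mk_rep]
      exact (Projectivization.mk_eq_mk_iff' F _ _ _ _).2
        ⟨a⁻¹ * b, by rw [mul_smul, ← e', inv_smul_smul₀ ha]⟩
    subst hpr
    exact Prod.ext rfl (Subtype.ext (smul_left_injective F p.1.rep_nonzero e'))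
  · rintro ⟨x, hx, hxx, hQx⟩
    obtain ⟨a, ha⟩ := Projectivization.exists_smul_eq_mk_rep F x hx
    have hQp : Q (isoPoint hx hxx).1.rep := by
      show Q (Projectivization.mk F x hx).rep
      rw [← ha, Units.smul_def]
      exact (hQ _ _ a.ne_zero).2 hQx
    refine ⟨(⟨isoPoint hx hxx, hQp⟩, ⟨((a⁻¹ : Fˣ) : F), Units.ne_zero _⟩), Subtype.ext ?_⟩
    show ((a⁻¹ : Fˣ) : F) • (Projectivization.mk F x hx).rep = x
    rw [← ha, ← Units.smul_def, inv_smul_smul]

variable (h : IsHerm B) [Finite F] [FiniteDimensional F V] (h3 : Module.finrank F V = 3)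
include h

theorem fixed_card_ge : 4 ≤ Nat.card F := by
  rw [h.invol.card_sq]
  exact Nat.pow_le_pow_left (IsInvol.card_ge_two (σ := σ)) 2

include h3

/-- There are `q ^ 3 + 1` isotropic points. -/
theorem card_isoPts : Nat.card (isoPts B) = Nat.card (fixedSub σ) ^ 3 + 1 := by
  classical
  have h4 := fixed_card_ge h
  have hc := card_points_mul (B := B) (fun _ => True) (fun _ _ _ => Iff.rfl)
  simp only [and_true] at hc
  rw [h.card_isotropic_ne_zero (m := 1) h3, ordFactor, ordFactor, if_pos (by decide),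
    if_neg (by decide), Nat.card_congr (Equiv.subtypeUnivEquiv
      (p := fun _ : isoPts B => True) fun _ => trivial), h.invol.card_sq] at hc
  rw [h.invol.card_sq] at h4
  refine Nat.eq_of_mul_eq_mul_right (show 0 < Nat.card (fixedSub σ) ^ 2 - 1 by omega) ?_
  rw [hc]

namespace HPair

omit [Finite F] [FiniteDimensional F V] h3 in
/-- A pair at prescribed distinct isotropic points. -/
theorem exists_of_points {u w : V} (huu : B u u = 0) (hww : B w w = 0) (huw : B u w ≠ 0) :
    ∃ P : HPair B, P.v = u ∧ ∃ a : F, a ≠ 0 ∧ P.f = a • w :=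
  ⟨⟨u, (B u w)⁻¹ • w, huu, by rw [smul_left, smul_right, hww, mul_zero, mul_zero],
    by rw [smul_right, inv_mul_cancel₀ huw]⟩, rfl, _, inv_ne_zero huw, rfl⟩

variable (P : HPair B)

theorem finrank_W_one : Module.finrank F (P.W h) = 1 :=
  P.finrank_W h (d := 1) h3

/-- A unit vector spanning the complement. -/
theorem exists_unit : ∃ e : P.W h, B (e : V) e = 1 ∧ ∀ w : P.W h, ∃ t : F, w = t • e := by
  obtain ⟨y, hy, hyy⟩ := h.exists_norm_in (h.orth_nondeg (P.nondeg h))
    (show 0 < Module.finrank F (P.W h) by rw [P.finrank_W_one h h3]; norm_num) (map_one σ)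
  refine ⟨⟨y, hy⟩, hyy, fun w => ?_⟩
  have hy0 : (⟨y, hy⟩ : P.W h) ≠ 0 := fun e => by
    have := congrArg (fun z : P.W h => (z : V)) e
    simp only [ZeroMemClass.coe_zero] at this
    rw [this, zero_left] at hyy
    exact zero_ne_one hyy
  exact (exists_smul_eq_of_finrank_eq_one (P.finrank_W_one h h3) hy0 w).imp fun _ e => e.symm

/-- An element fixing both points of the pair: its effect on the complement. -/
structure Diag (g : HSU B) (α : F) : Prop where
  v : ap g P.v = α • P.v
  f : ap g P.f = (σ α)⁻¹ • P.f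

variable {P}

omit h3 in
theorem scalar_ne_of_v {g : HSU B} {α : F} (hg : ap g P.v = α • P.v) : α ≠ 0 := fun e => by
  rw [e, zero_smul] at hg
  exact P.v_ne ((ap g).injective (hg.trans (map_zero _).symm))

omit h3 in
theorem Diag.levi {g : HSU B} {α : F} (hg : P.Diag g α) : P.Levi h g α := by
  have hα := scalar_ne_of_v h hg.v
  refine ⟨hg.v, fun w => P.mem_W (h := h) ?_ ?_⟩
  · have := ap_eq g P.v (w : V)
    rw [hg.v, smul_left, P.vw w] at this
    exact (mul_eq_zero.1 this).resolve_left fun e => hα (IsInvol.apply_eq_zero_iff.1 e)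
  · have := ap_eq g P.f (w : V)
    rw [hg.f, smul_left, P.fw w] at this
    refine (mul_eq_zero.1 this).resolve_left fun e => hα ?_
    have h1 := IsInvol.apply_eq_zero_iff.1 e
    exact IsInvol.apply_eq_zero_iff.1 (inv_eq_zero.1 h1)

/-- The determinant condition. -/
theorem Diag.map_W {g : HSU B} {α : F} (hg : P.Diag g α) (w : P.W h) :
    ap g (w : V) = (σ α / α) • (w : V) := by
  have hα := scalar_ne_of_v h hg.v
  have hσ : σ α ≠ 0 := fun e => hα (IsInvol.apply_eq_zero_iff.1 e)
  obtain ⟨e, hee, hspan⟩ := P.exists_unit h h3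
  obtain ⟨μ, hμ⟩ : ∃ μ : F, ap g (e : V) = μ • (e : V) := by
    obtain ⟨t, ht⟩ := hspan ⟨_, (hg.levi h).W e⟩
    exact ⟨t, congrArg Subtype.val ht⟩
  have hli : LinearIndependent F ![P.v, P.f, (e : V)] := by
    rw [Fintype.linearIndependent_iff]
    intro c hc
    rw [Fin.sum_univ_three] at hc
    have e1 := congrArg (B P.f) hc
    have e2 := congrArg (B P.v) hc
    have e3 := congrArg (B (e : V)) hc
    simp [smul_right, P.fv h, P.ff, P.fw e] at e1
    simp [smul_right, P.vv, P.vf, P.vw e] at e2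
    simp [smul_right, P.wv e, P.wf e, hee] at e3
    intro i
    fin_cases i <;> assumption
  let b := basisOfLinearIndependentOfCardEqFinrank hli (by rw [Fintype.card_fin, h3])
  have hb : ∀ i, b i = ![P.v, P.f, (e : V)] i := fun i => by simp [b]
  have hdiag : LinearMap.toMatrix b b (ap g : V →ₗ[F] V) =
      Matrix.diagonal ![α, (σ α)⁻¹, μ] := by
    ext i j
    rw [LinearMap.toMatrix_apply]
    have : (ap g : V →ₗ[F] V) (b j) = (![α, (σ α)⁻¹, μ] j) • b j := by
      rw [hb]
      fin_cases j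
      · exact hg.v
      · exact hg.f
      · exact hμ
    rw [this, map_smul, Module.Basis.repr_self, Finsupp.smul_apply, Finsupp.single_apply,
      Matrix.diagonal_apply, smul_eq_mul]
    by_cases hij : i = j
    · subst hij; simp
    · rw [if_neg (fun e => hij e.symm), if_neg hij, mul_zero]
  have hdet : LinearMap.det (ap g : V →ₗ[F] V) = 1 := by
    rw [← LinearEquiv.coe_det]
    exact congrArg Units.val (MonoidHom.mem_ker.1 g.2)
  rw [← LinearMap.det_toMatrix b, hdiag, Matrix.det_diagonal, Fin.prod_univ_three] at hdet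
  have hμ' : μ = σ α / α := by
    simp at hdet
    field_simp at hdet ⊢
    linear_combination hdet
  obtain ⟨t, rfl⟩ := hspan w
  rw [Submodule.coe_smul, LinearEquiv.map_smul, hμ, hμ', smul_comm]

theorem Diag.eq_one {g : HSU B} (hg : P.Diag g 1) : g = 1 := by
  refine ap_ext fun y => ?_
  obtain ⟨w, hw⟩ := P.decomp (h := h) y
  rw [ap_one, hw, map_add, map_add, LinearEquiv.map_smul, LinearEquiv.map_smul, hg.v, hg.f,
    hg.map_W h h3 w, map_one, div_one, inv_one, one_smul, one_smul, one_smul]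

omit h3 in
/-- An element fixing the centre is an Eichler element times one fixing both points. -/
theorem exists_decomp_stab {g : HSU B} {α : F} (hg : ap g P.v = α • P.v) :
    ∃ u l, u ∈ P.EU h ∧ P.Diag l α ∧ g = u * l := by
  have hα := scalar_ne_of_v h hg
  have hσ : σ α ≠ 0 := fun e => hα (IsInvol.apply_eq_zero_iff.1 e)
  set f' := σ α • ap g P.f with hf'
  have hvf : B P.v f' = 1 := by
    have := ap_eq g P.v P.f
    rw [hg, smul_left, P.vf] at this
    rw [hf', smul_right]
    exact this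
  have hff : B f' f' = 0 := by rw [hf', smul_left, smul_right, ap_eq, P.ff, mul_zero, mul_zero]
  obtain ⟨w, hw⟩ := P.decomp (h := h) f'
  rw [hvf, one_smul] at hw
  have ha : B P.f f' + σ (B P.f f') = -B (w : V) w := by
    have h' := hff
    generalize B P.f f' = r at hw ⊢
    rw [hw] at h'
    simp [smul_left, smul_right, P.vv, P.ff, P.vf, P.fv h, P.vw w, P.fw w, P.wv w, P.wf w] at h'
    linear_combination h'
  let a : P.Par h w := ⟨B P.f f', ha⟩
  refine ⟨P.El h w a, (P.El h w a)⁻¹ * g, ⟨_, _, rfl⟩, ⟨?_, ?_⟩, (mul_inv_cancel_left _ _).symm⟩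
  · apply (ap (P.El h w a)).injective
    rw [ap_mul, ap_apply_inv, LinearEquiv.map_smul, El_v, hg]
  · apply (ap (P.El h w a)).injective
    rw [ap_mul, ap_apply_inv, LinearEquiv.map_smul, El_f]
    have h1 : ap g P.f = (σ α)⁻¹ • f' := by rw [hf', inv_smul_smul₀ hσ]
    rw [h1, hw]
    congr 1
    show _ = P.f + (w : V) + B P.f f' • P.v
    rw [hw]
    simp [smul_right, P.fv h, P.ff, P.fw w]
    abel

theorem mem_EU_iff {g : HSU B} : g ∈ P.EU h ↔ ap g P.v = P.v := by
  refine ⟨fun ⟨w, a, e⟩ => e ▸ P.El_v h w a, fun hg => ?_⟩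
  obtain ⟨u, l, hu, hl, rfl⟩ := exists_decomp_stab h (g := g) (α := 1) (by rw [hg, one_smul])
  rwa [hl.eq_one h h3, mul_one]

/-- Conjugating an Eichler element by an element fixing the centre. -/
theorem conj_El {g : HSU B} {α : F} (hg : ap g P.v = α • P.v) (w : P.W h) (a : P.Par h w) :
    ∃ a' : P.Par h ((σ α * σ α / α) • w),
      g * P.El h w a * g⁻¹ = P.El h ((σ α * σ α / α) • w) a' := by
  obtain ⟨u, l, ⟨w₀, a₀, rfl⟩, hl, rfl⟩ := exists_decomp_stab h hg
  have hα := scalar_ne_of_v h hg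
  have hmap : (hl.levi h).map w = (σ α * σ α / α) • w := Subtype.ext (by
    rw [Levi.map_coe, hl.map_W h h3, smul_smul, Submodule.coe_smul, mul_div_assoc])
  obtain ⟨ai, hai⟩ := P.El_inv h a₀
  have e1 := (hl.levi h).mul_El a
  have hw : w₀ + (hl.levi h).map w + -w₀ = (σ α * σ α / α) • w := by rw [hmap]; abel
  have key : P.El h w₀ a₀ * l * P.El h w a * (P.El h w₀ a₀ * l)⁻¹ =
      P.El h (w₀ + (hl.levi h).map w + -w₀) (P.parMul h (P.parMul h a₀ ⟨α * σ α * a, by
        rw [Levi.map_coe, IsHerm.smul_self, ap_eq, h.invol.invol, map_mul, map_mul, h.invol.invol]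
        linear_combination (α * σ α) * a.2⟩) ai) := by
    rw [← El_mul, ← El_mul, ← hai, mul_inv_rev, mul_assoc (P.El h w₀ a₀) l, e1]
    simp only [mul_assoc, mul_inv_cancel_left]
  exact hw ▸ ⟨_, key⟩

omit h3 in
/-- Conjugating a transvection by an element fixing the centre. -/
theorem conj_Tv {g : HSU B} {α : F} (hg : ap g P.v = α • P.v) {c : F} (hc : c + σ c = 0) :
    g * P.Tv h hc = P.Tv h (show α * σ α * c + σ (α * σ α * c) = 0 by
      rw [map_mul, map_mul, h.invol.invol]; linear_combination (α * σ α) * hc) * g := by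
  refine ap_ext fun y => ?_
  have h1 : B P.v y = σ α * B P.v (ap g y) := by
    conv_lhs => rw [← ap_eq g, hg, smul_left]
  simp only [ap_mul, MinIndexSU.T_apply, map_add, LinearEquiv.map_smul, hg, smul_smul, h1]
  match_scalars <;> ring

end HPair

/-- Distinct isotropic points are not orthogonal. -/
theorem perp_ne_zero {u w : V} (hu : u ≠ 0) (huu : B u u = 0) (hww : B w w = 0)
    (hne : ∀ a : F, w ≠ a • u) : B u w ≠ 0 := by
  intro h0
  obtain ⟨f, huf, hff⟩ := h.exists_isotropic_partner hu huu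
  let P : HPair B := ⟨u, f, huu, hff, huf⟩
  obtain ⟨e, hee, hspan⟩ := P.exists_unit h h3
  obtain ⟨z, hz⟩ := P.decomp (h := h) w
  rw [show B P.v w = 0 from h0, zero_smul, add_zero] at hz
  obtain ⟨t, rfl⟩ := hspan z
  have h1 := hww
  rw [hz] at h1
  simp [smul_left, smul_right, P.vv, P.vw e, P.wv e, hee] at h1
  have ht : t = 0 := h1
  refine hne (B P.f w) ?_
  rw [ht, zero_smul, ZeroMemClass.coe_zero, add_zero] at hz
  exact hz

omit h3 in
/-- The points on a chord. -/
theorem card_chord (P : HPair B) :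
    Nat.card {p : isoPts B // p.1.rep ∈ P.plane} = Nat.card (fixedSub σ) + 1 := by
  classical
  have h4 := fixed_card_ge h
  rw [h.invol.card_sq] at h4
  have hc := card_points_mul (B := B) (· ∈ P.plane) (fun a u ha => P.plane.smul_mem_iff ha)
  have hU := h.restrict_herm (P.nondeg h)
  have hr := hU.card_isotropic_ne_zero (m := 0) (h.pair_finrank (h.hyperbolic_disc P.vv P.vf))
  have he : Nat.card {u : P.plane // u ≠ 0 ∧ IsHerm.restrict B P.plane u u = 0} =
      Nat.card {u : V // u ≠ 0 ∧ B u u = 0 ∧ u ∈ P.plane} :=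
    Nat.card_congr
      { toFun := fun u => ⟨((u.1 : P.plane) : V), fun e => u.2.1 (Subtype.ext e), u.2.2, u.1.2⟩
        invFun := fun u => ⟨⟨u.1, u.2.2.2⟩, fun e => u.2.1 (congrArg Subtype.val e), u.2.2.1⟩
        left_inv := fun _ => rfl
        right_inv := fun _ => rfl }
  rw [← he, hr, ordFactor, ordFactor, if_neg (by decide), if_pos (by decide),
    h.invol.card_sq] at hc
  refine Nat.eq_of_mul_eq_mul_right (show 0 < Nat.card (fixedSub σ) ^ 2 - 1 by omega) ?_
  rw [hc, zero_add, pow_one, mul_comm]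

omit h3 in
/-- Three fixed isotropic points off a chord force a scalar. -/
theorem eq_scalar_of_fixed {g : HSU B} (P : HPair B) {a b : F} (ha : ap g P.v = a • P.v)
    (hb : ap g P.f = b • P.f) {z : V} {c : F} (hzc : ap g z = c • z) (hzz : B z z = 0)
    (hz : z ∉ P.plane) (hz1 : B P.v z ≠ 0) (hz2 : B P.f z ≠ 0)
    (h3' : Module.finrank F V = 3) : ∀ y, ap g y = c • y := by
  have e1 : σ a * c = 1 := by
    have := ap_eq g P.v z
    rw [ha, hzc, smul_left, smul_right, ← mul_assoc] at this
    exact mul_eq_right₀ hz1 |>.1 this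
  have e2 : σ b * c = 1 := by
    have := ap_eq g P.f z
    rw [hb, hzc, smul_left, smul_right, ← mul_assoc] at this
    exact mul_eq_right₀ hz2 |>.1 this
  have e3 : σ a * b = 1 := by
    have := ap_eq g P.v P.f
    rwa [ha, hb, smul_left, smul_right, P.vf, mul_one] at this
  have hσ : σ a ≠ 0 := fun e => by rw [e, zero_mul] at e3; exact zero_ne_one e3
  have hbc : b = c := mul_left_cancel₀ hσ (e3.trans e1.symm)
  have hσb : σ b ≠ 0 := fun e => by rw [e, zero_mul] at e2; exact zero_ne_one e2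
  have hac : a = c := by
    have e4 := congrArg σ e3
    rw [map_mul, h.invol.invol, map_one, mul_comm] at e4
    exact mul_left_cancel₀ hσb (e4.trans e2.symm)
  have key : LinearMap.ker ((ap g : V →ₗ[F] V) - c • LinearMap.id) = ⊤ := by
    refine Submodule.eq_top_of_finrank_eq ?_
    refine le_antisymm (Submodule.finrank_le _) ?_
    rw [h3']
    have hle : P.plane ⊔ Submodule.span F {z} ≤
        LinearMap.ker ((ap g : V →ₗ[F] V) - c • LinearMap.id) := by
      simp only [sup_le_iff, Submodule.span_le, Set.insert_subset_iff, Set.singleton_subset_iff,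
        SetLike.mem_coe, LinearMap.mem_ker, LinearMap.sub_apply, LinearMap.smul_apply,
        LinearMap.id_apply, LinearEquiv.coe_coe, sub_eq_zero]
      exact ⟨⟨hac ▸ ha, hbc ▸ hb⟩, hzc⟩
    refine le_trans ?_ (Submodule.finrank_mono hle)
    have hlt : P.plane < P.plane ⊔ Submodule.span F {z} :=
      left_lt_sup.2 fun e => hz (e (Submodule.mem_span_singleton_self z))
    have := Submodule.finrank_lt_finrank_of_lt hlt
    rw [show Module.finrank F P.plane = 2 from h.pair_finrank (h.hyperbolic_disc P.vv P.vf)] at this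
    omega
  intro y
  have := LinearMap.mem_ker.1 (key.ge (Submodule.mem_top (x := y)))
  simpa [sub_eq_zero] using this

/-- A non-scalar element fixes at most `q + 1` isotropic points. -/
theorem card_fixed_le {g : HSU B} (hg : g ∉ Subgroup.center (HSU B)) :
    Nat.card {p : isoPts B // g • p = p} ≤ Nat.card (fixedSub σ) + 1 := by
  classical
  have : Finite V := Module.finite_of_finite F
  by_cases htwo : Nat.card {p : isoPts B // g • p = p} ≤ 1
  · omega
  obtain ⟨⟨p, hp⟩, ⟨r, hr⟩, hpr⟩ := (Finite.one_lt_card_iff_nontrivial.1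
    (show 1 < Nat.card {p : isoPts B // g • p = p} by omega)).exists_pair_ne
  obtain ⟨u, hu, huu, rfl⟩ := exists_isoPoint_eq p
  obtain ⟨w, hw, hww, rfl⟩ := exists_isoPoint_eq r
  have hne : ∀ a : F, w ≠ a • u := fun a e => hpr (Subtype.ext
    (((isoPoint_eq_iff hw hww hu huu).2 ⟨a, e.symm⟩).symm))
  obtain ⟨a, ha⟩ := (isoPoint_congr hu huu).1 hp
  obtain ⟨b, hb⟩ := (isoPoint_congr hw hww).1 hr
  obtain ⟨P, hv, t, ht, hf⟩ := HPair.exists_of_points h huu hww (perp_ne_zero h h3 hu huu hww hne)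
  rw [← card_chord h P]
  refine Nat.card_le_card_of_injective (fun x => (⟨x.1, ?_⟩ : {p : isoPts B // p.1.rep ∈ P.plane}))
    fun x y e => Subtype.ext (congrArg (fun z : {p : isoPts B // p.1.rep ∈ P.plane} => z.1) e)
  by_contra hx
  obtain ⟨c, hc⟩ : ∃ c : F, ap g x.1.1.rep = c • x.1.1.rep := by
    have he : isoPoint x.1.1.rep_nonzero x.1.2 = x.1 := Subtype.ext x.1.1.mk_rep
    exact (isoPoint_congr (g := g) x.1.1.rep_nonzero x.1.2).1 (by rw [he]; exact x.2)
  have hzne : ∀ z ∈ P.plane, ∀ s : F, x.1.1.rep ≠ s • z := fun z hz s e => hx (by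
    rw [e]; exact P.plane.smul_mem _ hz)
  have hPf : ap g P.f = b • P.f := by rw [hf, LinearEquiv.map_smul, hb, smul_comm]
  have := eq_scalar_of_fixed h P (hv ▸ ha) hPf hc x.1.2 hx
    (perp_ne_zero h h3 P.v_ne P.vv x.1.2 (hzne _ P.v_mem))
    (perp_ne_zero h h3 (by rw [hf]; exact smul_ne_zero ht hw) P.ff x.1.2 (hzne _ P.f_mem)) h3
  exact hg ((h.mem_center_HSU_iff (by omega)).2 ⟨c, this⟩)

end CfsgLib.LocalEvenB.MinIndexSU
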