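import Cfsg.Agent.Lib.LocalEvenB.MinIndexSU.ThreeIndex.Cases
import Cfsg.Agent.Lib.Perm.SimpleCount
import Mathlib.GroupTheory.Transfer

/-!
Elements of large prime order rule out the exceptional candidates.
-/

set_option autoImplicit false

namespace CfsgLib.LocalEvenB.MinIndexSU

open CfsgLib.Classical CfsgLib.Classical.Herm

variable {F : Type*} [Field F] {V : Type*} [AddCommGroup V] [Module F V] {σ : F →+* F}
  {B : V →ₛₗ[σ] V →ₗ[F] F} [Finite F] [FiniteDimensional F V] (h : IsHerm B)
  (h3 : Module.finrank F V = 3)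
include h h3

/-- A pair orthogonal to an anisotropic vector. -/
theorem exists_pair_perp {y : V} (hy : B y y ≠ 0) :
    ∃ P : HPair B, B y P.v = 0 ∧ B y P.f = 0 ∧
      (∀ z : V, z ∈ P.plane ↔ B y z = 0) := by
  have hrank : Module.finrank F (h.perp y) = 2 := by
    have := h.finrank_perp (x := y) hy
    omega
  obtain ⟨v, hv, hvv⟩ := (h.restrict_herm (h.perp_nondeg hy)).exists_isotropic (by omega)
  obtain ⟨f, hvf, hff⟩ := (h.restrict_herm (h.perp_nondeg hy)).exists_isotropic_partner hv hvv
  refine ⟨⟨v, f, hvv, hff, hvf⟩, h.mem_perp.1 v.2, h.mem_perp.1 f.2, fun z => ?_⟩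
  have e : HPair.plane (⟨(v : V), f, hvv, hff, hvf⟩ : HPair B) = h.perp y := by
    refine Submodule.eq_of_le_of_finrank_le ?_ ?_
    · rw [HPair.plane, Submodule.span_le, Set.insert_subset_iff, Set.singleton_subset_iff]
      exact ⟨v.2, f.2⟩
    · rw [hrank]
      exact le_of_eq (h.pair_finrank (h.hyperbolic_disc (u := (v : V)) (f := (f : V)) hvv hvf)).symm
  rw [e, h.mem_perp]

/-- An involution negates a hyperplane and fixes an isotropic point. -/
theorem involution_data {t : HSU B} (ht : t * t = 1) (ht1 : t ≠ 1) :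
    (∃ φ : V →ₗ[F] F, ∀ y, φ y = 0 → ap t y = -y) ∧ ∃ z : isoPts B, t • z = z := by
  classical
  by_cases h2 : (2 : F) = 0
  · have : Finite V := Module.finite_of_finite F
    have : Finite (isoPts B) := Nat.finite_of_card_ne_zero (by rw [card_isoPts h h3]; omega)
    have : Fact (Nat.Prime 2) := ⟨Nat.prime_two⟩
    have h2t : IsPGroup 2 (Subgroup.zpowers t) := IsPGroup.of_card (n := 1) (by
      rw [Nat.card_zpowers, pow_one]; exact orderOf_eq_prime (by rw [sq]; exact ht) ht1)
    have hodd : ¬ 2 ∣ Nat.card (isoPts B) := by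
      have : Fintype F := Fintype.ofFinite F
      obtain ⟨p, hpc⟩ := CharP.exists F
      have : Fact p.Prime := ⟨CharP.char_is_prime F p⟩
      have hp2 : p = 2 := (Nat.prime_dvd_prime_iff_eq Fact.out Nat.prime_two).1
        ((CharP.cast_eq_zero_iff F p 2).1 (by exact_mod_cast h2))
      subst hp2
      obtain ⟨n, -, hn⟩ := FiniteField.card F 2
      have hd : 2 ∣ Nat.card (fixedSub σ) := by
        refine Nat.prime_two.dvd_of_dvd_pow (n := 2) ?_
        rw [← h.invol.card_sq, Nat.card_eq_fintype_card, hn]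
        exact dvd_pow_self _ n.2.ne'
      rw [card_isoPts h h3]
      exact fun hd' => absurd ((Nat.dvd_add_right (dvd_pow hd (by norm_num))).1 hd') (by norm_num)
    obtain ⟨z, hz⟩ := h2t.nonempty_fixed_point_of_prime_not_dvd_card (isoPts B) hodd
    have hzt : t • z = z := hz ⟨t, Subgroup.mem_zpowers t⟩
    refine ⟨?_, z, hzt⟩
    obtain ⟨P, rfl⟩ := exists_pair_of_point h h3 z
    obtain ⟨α, hα⟩ := (isoPoint_congr P.v_ne P.vv).1 hzt
    have hα1 : α = 1 := by
      have e := congrArg (fun x => ap x P.v) ht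
      rw [ap_mul, ap_one, hα, LinearEquiv.map_smul, hα, smul_smul] at e
      have e' : α * α = 1 := smul_left_injective F P.v_ne (e.trans (one_smul F _).symm)
      exact (mul_self_eq_one_iff.1 e').elim id fun e => e.trans (by linear_combination -h2)
    obtain ⟨w, a, he⟩ := (P.mem_EU_iff h h3).2 (show ap t P.v = P.v by rw [hα, hα1, one_smul])
    subst he
    rw [P.El_mul h, ← P.El_zero h] at ht
    have e2 := (P.El_inj h ht).2
    simp only [HPair.parMul, HPair.parZero] at e2
    have hww : B (w : V) w = 0 := by linear_combination (a : F) * h2 - e2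
    have hw0 : w = 0 := by
      obtain ⟨e, hee, hspan⟩ := P.exists_unit h h3
      obtain ⟨s, rfl⟩ := hspan w
      rw [Submodule.coe_smul, IsHerm.smul_self, hee, mul_one] at hww
      have hs : s = 0 := (mul_eq_zero.1 hww).elim id fun e' => IsInvol.apply_eq_zero_iff.1 e'
      rw [hs, zero_smul]
    subst hw0
    refine ⟨B P.v, fun y hy => ?_⟩
    have hyy : (2 : F) • y = 0 := by rw [h2, zero_smul]
    rw [two_smul] at hyy
    rw [P.El_apply h]
    simp [hy]
    exact eq_neg_of_add_eq_zero_left hyy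
  · obtain ⟨w, rfl⟩ := h.exists_eq_invol3 (h3 := h3) h2 ht1 ht
    have key : ∀ y, B (w : V) y = 0 → ap (h.invol3 h3 w) y = -y := fun y hy => by
      show ((h.invol3 h3 w : HU B) : V ≃ₗ[F] V) y = _
      rw [h.invol3_apply, hy, mul_zero, zero_smul, zero_sub]
    refine ⟨⟨B (w : V), key⟩, ?_⟩
    obtain ⟨P, hP, -, -⟩ := exists_pair_perp h h3 (y := (w : V)) w.self_ne_zero
    exact ⟨isoPoint P.v_ne P.vv, (isoPoint_congr _ _).2 ⟨-1, by rw [key _ hP, neg_one_smul]⟩⟩

variable (H : Subgroup (HSU B))

/-- The hypotheses on an element of large prime order. -/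
structure BigPrime (x : HSU B) (r : ℕ) : Prop where
  prime : r.Prime
  order : orderOf x = r
  big : Nat.card (fixedSub σ) + 1 < r
  free : ∀ z : isoPts B, x • z ≠ z

omit h h3 in
theorem BigPrime.zpowers_fix {x : HSU B} {r : ℕ} (hx : BigPrime x r) (k : Subgroup.zpowers x)
    (z : isoPts B) (hk : (k : HSU B) • z = z) : k = 1 := by
  by_contra hne
  have : Fact r.Prime := ⟨hx.prime⟩
  have hcard : Nat.card (Subgroup.zpowers x) = r := by rw [Nat.card_zpowers, hx.order]
  have : Finite (Subgroup.zpowers x) :=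
    Nat.finite_of_card_ne_zero (by rw [hcard]; exact hx.prime.ne_zero)
  have htop := zpowers_eq_top_of_prime_card hcard hne
  have hmem : (⟨x, Subgroup.mem_zpowers x⟩ : Subgroup.zpowers x) ∈
      (MulAction.stabilizer (HSU B) z).subgroupOf (Subgroup.zpowers x) := by
    have hle : Subgroup.zpowers k ≤
        (MulAction.stabilizer (HSU B) z).subgroupOf (Subgroup.zpowers x) :=
      Subgroup.zpowers_le.2 hk
    exact hle (htop ▸ Subgroup.mem_top _)
  exact hx.free z hmem

/-- Such an element fixes no vector. -/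
theorem BigPrime.no_fixed_vector {x : HSU B} {r : ℕ} (hx : BigPrime x r) {y : V} (hy : y ≠ 0)
    (hxy : ap x y = y) : False := by
  classical
  by_cases hyy : B y y = 0
  · exact hx.free _ ((isoPoint_congr hy hyy).2 ⟨1, by rw [one_smul, hxy]⟩)
  obtain ⟨P, -, -, hplane⟩ := exists_pair_perp h h3 hyy
  have : Finite P.Pts := Nat.finite_of_card_ne_zero (by
    rw [show Nat.card P.Pts = _ from card_chord h P]; omega)
  have : Fact r.Prime := ⟨hx.prime⟩
  let S : Subgroup (HSU B) :=
    { carrier := {g | ap g y = y}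
      mul_mem' := fun {a b} (ha : ap a y = y) (hb : ap b y = y) => by
        show ap (a * b) y = y
        rw [ap_mul, hb, ha]
      one_mem' := ap_one y
      inv_mem' := fun {a} (ha : ap a y = y) => by
        show ap a⁻¹ y = y
        conv_lhs => rw [← ha, ap_inv_apply] }
  have hS : Subgroup.zpowers x ≤ S := Subgroup.zpowers_le.2 hxy
  have hmap : ∀ g : Subgroup.zpowers x, ∀ p : P.Pts, ((g : HSU B) • p.1).1.rep ∈ P.plane := by
    intro g p
    have hgp : ap (g : HSU B) p.1.1.rep ≠ 0 := by simpa using p.1.1.rep_nonzero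
    have e : (g : HSU B) • p.1 = isoPoint hgp (by rw [ap_eq]; exact p.1.2) := by
      conv_lhs => rw [show p.1 = isoPoint p.1.1.rep_nonzero p.1.2 from
        Subtype.ext p.1.1.mk_rep.symm]
      exact smul_isoPoint _ _ _ _ rfl
    obtain ⟨a, ha⟩ := Projectivization.exists_smul_eq_mk_rep F _ hgp
    rw [e]
    show (Projectivization.mk F _ hgp).rep ∈ P.plane
    rw [← ha, Units.smul_def]
    refine P.plane.smul_mem _ ((hplane _).2 ?_)
    rw [← show ap (g : HSU B) y = y from hS g.2, ap_eq]
    exact (hplane _).1 p.2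
  let act : MulAction (Subgroup.zpowers x) P.Pts :=
    { smul := fun g p => ⟨(g : HSU B) • p.1, hmap g p⟩
      one_smul := fun p => Subtype.ext (one_smul _ _)
      mul_smul := fun g k p => Subtype.ext (mul_smul _ _ _) }
  have hinj : Function.Injective fun g : Subgroup.zpowers x => g • P.centre := fun g k e => by
    have e' : (g : HSU B) • P.centre.1 = (k : HSU B) • P.centre.1 := congrArg Subtype.val e
    have := hx.zpowers_fix (k⁻¹ * g) P.centre.1 (by
      rw [Subgroup.coe_mul, Subgroup.coe_inv, mul_smul, e', inv_smul_smul])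
    exact (inv_mul_eq_one.1 this).symm
  have := Nat.card_le_card_of_injective _ hinj
  rw [Nat.card_zpowers, hx.order, show Nat.card P.Pts = _ from card_chord h P] at this
  have := hx.big
  omega

/-- Elements with a fixed point commuting with such an element are scalar. -/
theorem BigPrime.center_of_commute {x : HSU B} {r : ℕ} (hx : BigPrime x r) {g : HSU B}
    (hg : Commute g x) {z : isoPts B} (hz : g • z = z) : g ∈ Subgroup.center (HSU B) := by
  by_contra hc
  have h1 := card_fixed_le h h3 hc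
  have : Finite (isoPts B) := Nat.finite_of_card_ne_zero (by rw [card_isoPts h h3]; omega)
  have hinj : Function.Injective (fun k : Subgroup.zpowers x =>
      (⟨(k : HSU B) • z, by
        obtain ⟨i, hi⟩ := Subgroup.mem_zpowers_iff.1 k.2
        rw [← hi, ← mul_smul, (hg.zpow_right i).eq, mul_smul, hz]⟩ : {p : isoPts B // g • p = p})) :=
    fun a b e => by
      have e' : (a : HSU B) • z = (b : HSU B) • z := congrArg Subtype.val e
      have := hx.zpowers_fix (b⁻¹ * a) z (by
        rw [Subgroup.coe_mul, Subgroup.coe_inv, mul_smul, e', inv_smul_smul])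
      exact (inv_mul_eq_one.1 this).symm
  have := Nat.card_le_card_of_injective _ hinj
  rw [Nat.card_zpowers, hx.order] at this
  have := hx.big
  omega

/-- No involution normalises such an element. -/
theorem BigPrime.no_involution {x : HSU B} {r : ℕ} (hx : BigPrime x r) {t : HSU B}
    (ht : t * t = 1) (ht1 : t ≠ 1) (hn : t * x * t⁻¹ ∈ Subgroup.zpowers x) : False := by
  classical
  have : Fact r.Prime := ⟨hx.prime⟩
  have : Finite V := Module.finite_of_finite F
  have := finite_HSU (B := B)
  have htinv : t⁻¹ = t := inv_eq_of_mul_eq_one_right ht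
  obtain ⟨k, hk⟩ := Subgroup.mem_zpowers_iff.1 hn
  have hk2 : x ^ (k * k) = x := by
    rw [zpow_mul, hk, conj_zpow, hk]
    calc t * (t * x * t⁻¹) * t⁻¹ = (t * t) * x * (t * t)⁻¹ := by group
      _ = x := by rw [ht]; group
  have hmod : (r : ℤ) ∣ (k - 1) * (k + 1) := by
    have h1 : x ^ (k * k - 1) = 1 := by rw [zpow_sub, hk2, zpow_one, mul_inv_cancel]
    rw [show (k - 1) * (k + 1) = k * k - 1 by ring, ← hx.order]
    exact orderOf_dvd_iff_zpow_eq_one.2 h1
  have hr : Prime (r : ℤ) := Nat.prime_iff_prime_int.1 hx.prime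
  rcases hr.dvd_or_dvd hmod with hd | hd
  · -- commuting
    rw [← hx.order, orderOf_dvd_iff_zpow_eq_one, zpow_sub, zpow_one, mul_inv_eq_one] at hd
    have hc : Commute t x := by
      show t * x = x * t
      exact mul_inv_eq_iff_eq_mul.1 (hk.symm.trans hd)
    obtain ⟨-, z, hz⟩ := involution_data h h3 ht ht1
    have hcen := hx.center_of_commute h h3 hc hz
    have h2 : orderOf (⟨t, hcen⟩ : Subgroup.center (HSU B)) = 2 := by
      rw [← Subgroup.orderOf_coe]
      exact orderOf_eq_prime (by rw [sq]; exact ht) ht1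
    have h3' := h2 ▸ orderOf_dvd_natCard (⟨t, hcen⟩ : Subgroup.center (HSU B))
    rw [h.card_center_HSU (by omega), h3] at h3'
    exact absurd (h3'.trans (Nat.gcd_dvd_left _ _)) (by norm_num)
  · -- inverting
    rw [← hx.order, orderOf_dvd_iff_zpow_eq_one, zpow_add, zpow_one, hk] at hd
    have ht' : (t * x) * (t * x) = 1 := by
      calc (t * x) * (t * x) = (t * x * t⁻¹) * x := by rw [htinv]; group
        _ = 1 := hd
    have htx1 : t * x ≠ 1 := fun e => by
      have hxt : x = t := (eq_inv_of_mul_eq_one_right e).trans htinv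
      have : orderOf x ∣ 2 := orderOf_dvd_of_pow_eq_one (by rw [hxt, sq]; exact ht)
      rw [hx.order] at this
      have := Nat.le_of_dvd two_pos this
      have := hx.big
      have := IsInvol.card_ge_two (σ := σ)
      omega
    obtain ⟨⟨φ, hφ⟩, -⟩ := involution_data h h3 ht ht1
    obtain ⟨⟨ψ, hψ⟩, -⟩ := involution_data h h3 ht' htx1
    obtain ⟨y, hy, hy0⟩ : ∃ y ∈ LinearMap.ker (φ.prod ψ), y ≠ 0 := by
      refine Submodule.exists_mem_ne_zero_of_ne_bot fun e => ?_
      have := LinearMap.finrank_le_finrank_of_injective (LinearMap.ker_eq_bot.1 e)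
      rw [h3, Module.finrank_prod, Module.finrank_self] at this
      omega
    rw [LinearMap.mem_ker, LinearMap.prod_apply] at hy
    have hy' := Prod.ext_iff.1 hy
    refine hx.no_fixed_vector h h3 hy0 ?_
    have e1 : ap x y = ap t (ap (t * x) y) := by
      rw [← ap_mul, ← mul_assoc, ht, one_mul]
    rw [e1, hψ y hy'.2, map_neg, hφ y hy'.1, neg_neg]

/-- Large prime divisors with an even normaliser. -/
theorem even_normalizer_false {r : ℕ} [Fact r.Prime] {x : HSU B} (hx : BigPrime x r)
    (hxH : x ∈ H) (S : Sylow r H) (hS : (S : Subgroup H) = Subgroup.zpowers ⟨x, hxH⟩)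
    (heven : 2 ∣ Nat.card (Subgroup.normalizer ((S : Subgroup H) : Set H))) : False := by
  classical
  have : Finite V := Module.finite_of_finite F
  have := finite_HSU (B := B)
  obtain ⟨t, ht⟩ := exists_prime_orderOf_dvd_card' 2 heven
  have ht2 : (((t : H) : HSU B)) * ((t : H) : HSU B) = 1 := by
    have e := congrArg (fun z : Subgroup.normalizer ((S : Subgroup H) : Set H) => ((z : H) : HSU B))
      (show t ^ 2 = 1 from ht ▸ pow_orderOf_eq_one t)
    simpa [sq] using e
  have ht1 : ((t : H) : HSU B) ≠ 1 := fun e => by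
    have : t = 1 := Subtype.ext (Subtype.ext e)
    rw [this, orderOf_one] at ht
    omega
  refine hx.no_involution h h3 ht2 ht1 ?_
  have hm := (Subgroup.mem_normalizer_iff.1 t.2 ⟨x, hxH⟩).1 (hS ▸ Subgroup.mem_zpowers _)
  obtain ⟨i, hi⟩ := Subgroup.mem_zpowers_iff.1 ((SetLike.ext_iff.1 hS _).1 hm)
  exact Subgroup.mem_zpowers_iff.2 ⟨i, by simpa using congrArg Subtype.val hi⟩

/-- The candidate over eleven fails by transfer. -/
theorem eleven_false (hN : H.index ≤ Nat.card (fixedSub σ) ^ 3) (hZ : Subgroup.center (HSU B) ≤ H)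
    (hq : Nat.card (fixedSub σ) = 11) {P : HPair B}
    (hcard : Nat.card H = 439560)
    (hst : Nat.card (P.AS h H) * Nat.card (P.WS h H) = 11) (hc : Nat.card (P.scalars H) = 30)
    {x : HSU B} (hx : BigPrime x 37) (hxH : x ∈ H) [Fact (Nat.Prime 37)] (S : Sylow 37 H)
    (hS : (S : Subgroup H) = Subgroup.zpowers ⟨x, hxH⟩)
    (hnorm : Nat.card (Subgroup.normalizer ((S : Subgroup H) : Set H)) = 111) : False := by
  classical
  have : Finite V := Module.finite_of_finite F
  have := finite_HSU (B := B)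
  set N := Subgroup.normalizer ((S : Subgroup H) : Set H)
  have hScard : Nat.card (S : Subgroup H) = 37 := by
    rw [hS, Nat.card_zpowers, ← Subgroup.orderOf_coe]
    exact hx.order
  set C := Subgroup.centralizer ((S : Subgroup H) : Set H)
  have hSC : (S : Subgroup H) ≤ C := by
    intro a ha
    rw [Subgroup.mem_centralizer_iff]
    intro b hb
    rw [SetLike.mem_coe, hS, Subgroup.mem_zpowers_iff] at hb
    rw [hS, Subgroup.mem_zpowers_iff] at ha
    obtain ⟨i, rfl⟩ := ha
    obtain ⟨j, rfl⟩ := hb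
    exact (Commute.zpow_zpow_self _ _ _).eq
  have hZC : (Subgroup.center (HSU B)).subgroupOf H ≤ C := fun a ha => by
    rw [Subgroup.mem_centralizer_iff]
    exact fun b _ => Subtype.ext ((Subgroup.mem_center_iff.1 ha) (b : HSU B))
  have h3C : 3 ∣ Nat.card C := by
    refine dvd_trans ?_ (Subgroup.card_dvd_of_le hZC)
    rw [Nat.card_congr (Subgroup.subgroupOfEquivOfLe hZ).toEquiv, h.card_center_HSU (by omega), h3,
      hq]
    norm_num
  have h37C : 37 ∣ Nat.card C := hScard ▸ Subgroup.card_dvd_of_le hSC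
  have hCN : C ≤ N := Subgroup.centralizer_le_normalizer _
  have hNC : N ≤ C := by
    refine le_of_eq (Subgroup.eq_of_le_of_card_ge hCN ?_).symm
    rw [hnorm]
    exact Nat.le_of_dvd Nat.card_pos ((by norm_num : Nat.Coprime 3 37).mul_dvd_of_dvd_of_dvd h3C h37C)
  set M := (MonoidHom.transferSylow S hNC).ker
  have hcomp := MonoidHom.ker_transferSylow_isComplement' S hNC
  have hMidx : M.index = 37 := by rw [hcomp.symm.index_eq_card]; exact hScard
  have hMcard : Nat.card M = 11880 := by
    have := Subgroup.card_mul_index M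
    rw [hMidx, hcard] at this
    omega
  let xp := isoPoint P.v_ne P.vv
  have hK : Nat.card (MulAction.stabilizer H xp) = 330 := by
    have h1 := P.card_stab h H h3
    rw [P.card_inf_EU h H, hst, hc] at h1
    rw [← show (11 * 30 : ℕ) = 330 from rfl, ← h1]
    exact Nat.card_congr
      { toFun := fun g => ⟨g.1.1, g.1.2, g.2⟩
        invFun := fun g => ⟨⟨g.1, g.2.1⟩, g.2.2⟩
        left_inv := fun _ => rfl
        right_inv := fun _ => rfl }
  have hKM : MulAction.stabilizer H xp ≤ M := by
    intro g hg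
    have h1 : orderOf g ∣ 330 := hK ▸ Subgroup.orderOf_dvd_natCard _ hg
    have h2 : g ^ M.index ∈ M := Subgroup.pow_index_mem M g
    rw [hMidx] at h2
    have hcop : Nat.Coprime 37 (orderOf g) :=
      Nat.Coprime.coprime_dvd_right h1 (by norm_num)
    obtain ⟨m, hm⟩ := exists_pow_eq_self_of_coprime hcop
    exact hm ▸ M.pow_mem h2 m
  have horb : (MulAction.orbit M xp).ncard = 36 := by
    have h1 := Subgroup.card_mul_index (MulAction.stabilizer M xp)
    rw [MulAction.index_stabilizer, hMcard] at h1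
    have h2 : Nat.card (MulAction.stabilizer M xp) = 330 := by
      rw [← hK]
      exact Nat.card_congr
        { toFun := fun g => ⟨g.1.1, g.2⟩
          invFun := fun g => ⟨⟨g.1, hKM g.2⟩, g.2⟩
          left_inv := fun _ => rfl
          right_inv := fun _ => rfl }
    rw [h2] at h1
    omega
  have : Fact (Nat.Prime 11) := ⟨by norm_num⟩
  have hU : Nat.card (H ⊓ P.EU h : Subgroup (HSU B)) = 11 := by rw [P.card_inf_EU h H, hst]
  obtain ⟨u, hu, hu1⟩ := (Subgroup.bot_or_exists_ne_one (H ⊓ P.EU h)).resolve_left fun e => by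
    rw [e, Subgroup.card_bot] at hU
    omega
  have huM : (⟨u, hu.1⟩ : H) ∈ M := hKM (by
    show u • xp = xp
    exact smul_isoPoint P.v_ne P.vv P.v_ne P.vv ((P.mem_EU_iff h h3).1 hu.2))
  let act : MulAction (H ⊓ P.EU h : Subgroup (HSU B)) (MulAction.orbit M xp) :=
    { smul := fun g w => ⟨(g : HSU B) • (w : isoPts B), by
        have hgM : (⟨(g : HSU B), g.2.1⟩ : H) ∈ M := hKM (by
          show (g : HSU B) • xp = xp
          exact smul_isoPoint P.v_ne P.vv P.v_ne P.vv ((P.mem_EU_iff h h3).1 g.2.2))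
        exact MulAction.mem_orbit_of_mem_orbit (⟨_, hgM⟩ : M) w.2⟩
      one_smul := fun w => Subtype.ext (one_smul _ _)
      mul_smul := fun a b w => Subtype.ext (mul_smul _ _ _) }
  have : Finite (MulAction.orbit M xp) := Nat.finite_of_card_ne_zero (by
    rw [Nat.card_coe_set_eq, horb]; norm_num)
  have hmod := (IsPGroup.of_card (p := 11) (n := 1) (by rw [hU, pow_one]) :
    IsPGroup 11 (H ⊓ P.EU h : Subgroup (HSU B))).card_modEq_card_fixedPoints (MulAction.orbit M xp)
  have hfix : Nat.card (MulAction.fixedPoints (H ⊓ P.EU h : Subgroup (HSU B))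
      (MulAction.orbit M xp)) = 1 := by
    refine Nat.card_eq_one_iff_unique.2 ⟨⟨fun a b => ?_⟩, ⟨⟨⟨xp, MulAction.mem_orbit_self xp⟩,
      fun g => Subtype.ext (smul_isoPoint P.v_ne P.vv P.v_ne P.vv ((P.mem_EU_iff h h3).1 g.2.2))⟩⟩⟩
    have hall : ∀ w : MulAction.fixedPoints (H ⊓ P.EU h : Subgroup (HSU B))
        (MulAction.orbit M xp), ((w : MulAction.orbit M xp) : isoPts B) = xp := fun w => by
      by_contra hne
      exact hu1 (P.EU_fix_unique h h3 hu.2 (congrArg Subtype.val (w.2 ⟨u, hu⟩)) hne)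
    exact Subtype.ext (Subtype.ext ((hall a).trans (hall b).symm))
  rw [hfix, Nat.card_coe_set_eq, horb] at hmod
  exact absurd hmod (by decide)

/-- None of the four candidates exists. -/
theorem exception_false (hN : H.index ≤ Nat.card (fixedSub σ) ^ 3)
    (hZ : Subgroup.center (HSU B) ≤ H) {P : HPair B} {s c : ℕ}
    (hs : s = Nat.card (P.AS h H) * Nat.card (P.WS h H)) (hc : c = Nat.card (P.scalars H))
    (hcard : Nat.card H = (Nat.card (fixedSub σ) ^ 3 + 1) * (s * c))
    (hex : (Nat.card (fixedSub σ) = 3 ∧ s = 1 ∧ c = 8) ∨ (Nat.card (fixedSub σ) = 8 ∧ s = 8 ∧ c = 9) ∨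
      (Nat.card (fixedSub σ) = 9 ∧ s = 27 ∧ c = 4) ∨
      (Nat.card (fixedSub σ) = 11 ∧ s = 11 ∧ c = 30)) : False := by
  classical
  have : Finite V := Module.finite_of_finite F
  have := finite_HSU (B := B)
  obtain ⟨r, m, hr, hbig, hnd, hH, hrm, hdiv⟩ :
      ∃ r m, r.Prime ∧ Nat.card (fixedSub σ) + 1 < r ∧ ¬ r ∣ s * c ∧ Nat.card H = r * m ∧ ¬ r ∣ m ∧
        ∀ n, n ∣ m → n % r = 1 → (2 * n ∣ r * m) ∨
          (r = 37 ∧ n = 3960 ∧ Nat.card (fixedSub σ) = 11 ∧ s = 11 ∧ c = 30) := by
    rcases hex with ⟨a, b, d⟩ | ⟨a, b, d⟩ | ⟨a, b, d⟩ | ⟨a, b, d⟩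
    · refine ⟨7, 32, by norm_num, by rw [a]; norm_num, by rw [b, d]; norm_num,
        by rw [hcard, a, b, d]; norm_num, by norm_num, fun n hn hn1 => Or.inl ?_⟩
      have : n ∈ (Nat.divisors 32).filter (fun n => n % 7 = 1) :=
        Finset.mem_filter.2 ⟨Nat.mem_divisors.2 ⟨hn, by norm_num⟩, hn1⟩
      rw [show (Nat.divisors 32).filter (fun n => n % 7 = 1) = {1, 8} by decide] at this
      simp only [Finset.mem_insert, Finset.mem_singleton] at this
      rcases this with rfl | rfl <;> norm_num
    · refine ⟨19, 1944, by norm_num, by rw [a]; norm_num, by rw [b, d]; norm_num,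
        by rw [hcard, a, b, d]; norm_num, by norm_num, fun n hn hn1 => Or.inl ?_⟩
      have : n ∈ (Nat.divisors 1944).filter (fun n => n % 19 = 1) :=
        Finset.mem_filter.2 ⟨Nat.mem_divisors.2 ⟨hn, by norm_num⟩, hn1⟩
      rw [show (Nat.divisors 1944).filter (fun n => n % 19 = 1) = {1, 324} by decide +kernel] at this
      simp only [Finset.mem_insert, Finset.mem_singleton] at this
      rcases this with rfl | rfl <;> norm_num
    · refine ⟨73, 1080, by norm_num, by rw [a]; norm_num, by rw [b, d]; norm_num,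
        by rw [hcard, a, b, d]; norm_num, by norm_num, fun n hn hn1 => Or.inl ?_⟩
      have : n ∈ (Nat.divisors 1080).filter (fun n => n % 73 = 1) :=
        Finset.mem_filter.2 ⟨Nat.mem_divisors.2 ⟨hn, by norm_num⟩, hn1⟩
      rw [show (Nat.divisors 1080).filter (fun n => n % 73 = 1) = {1} by decide +kernel] at this
      rw [Finset.mem_singleton] at this
      subst this
      norm_num
    · refine ⟨37, 11880, by norm_num, by rw [a]; norm_num, by rw [b, d]; norm_num,
        by rw [hcard, a, b, d]; norm_num, by norm_num, fun n hn hn1 => ?_⟩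
      have : n ∈ (Nat.divisors 11880).filter (fun n => n % 37 = 1) :=
        Finset.mem_filter.2 ⟨Nat.mem_divisors.2 ⟨hn, by norm_num⟩, hn1⟩
      rw [show (Nat.divisors 11880).filter (fun n => n % 37 = 1) = {1, 297, 3960} by
        decide +kernel] at this
      simp only [Finset.mem_insert, Finset.mem_singleton] at this
      rcases this with rfl | rfl | rfl
      · exact Or.inl (by norm_num)
      · exact Or.inl (by norm_num)
      · exact Or.inr ⟨rfl, rfl, a, b, d⟩
  have : Fact r.Prime := ⟨hr⟩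
  obtain ⟨S⟩ : Nonempty (Sylow r H) := inferInstance
  have hScard : Nat.card (S : Subgroup H) = r :=
    (CfsgLib.Perm.sylow_card_eq S (k := 1) (by rw [hH, pow_one]) hrm).trans (pow_one r)
  obtain ⟨x, hx, hx1⟩ := (Subgroup.bot_or_exists_ne_one (S : Subgroup H)).resolve_left fun e => by
    rw [e, Subgroup.card_bot] at hScard
    exact hr.one_lt.ne hScard
  have hxo : orderOf x = r := by
    have := Subgroup.orderOf_dvd_natCard _ hx
    rw [hScard] at this
    exact ((Nat.dvd_prime hr).1 this).resolve_left fun e => hx1 (orderOf_eq_one_iff.1 e)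
  have hS : (S : Subgroup H) = Subgroup.zpowers x :=
    (Subgroup.eq_of_le_of_card_ge (Subgroup.zpowers_le.2 hx)
      (by rw [hScard, Nat.card_zpowers, hxo])).symm
  have hfree : ∀ z : isoPts B, (x : HSU B) • z ≠ z := by
    intro z hz
    obtain ⟨Q, rfl⟩ := exists_pair_of_point h h3 z
    obtain ⟨hQ, -⟩ := index_mul h h3 H hN Q
    rw [hcard] at hQ
    have hQs := Nat.eq_of_mul_eq_mul_left (Nat.succ_pos _) hQ
    have h1 := Q.card_stab h H h3
    rw [Q.card_inf_EU h H, ← hQs] at h1
    exact hnd (h1 ▸ (by rw [← hxo, ← Subgroup.orderOf_coe]; exact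
      Subgroup.orderOf_dvd_natCard _ (show (x : HSU B) ∈ H ⊓ MulAction.stabilizer (HSU B) _ from
        ⟨x.2, hz⟩)))
  have hbx : BigPrime (x : HSU B) r :=
    ⟨hr, by rw [Subgroup.orderOf_coe, hxo], hbig, hfree⟩
  set n := Nat.card (Sylow r H) with hn
  have hnm : n ∣ m := CfsgLib.Perm.card_sylow_dvd_of_card_eq (k := 1) (by rw [hH, pow_one])
  have hn1 : n % r = 1 := by
    have h1 := card_sylow_modEq_one r H
    rw [Nat.ModEq, Nat.mod_eq_of_lt hr.one_lt] at h1
    exact h1
  have hnorm : Nat.card (Subgroup.normalizer ((S : Subgroup H) : Set H)) * n = r * m := by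
    rw [hn, Sylow.card_eq_index_normalizer S, ← hH]
    exact Subgroup.card_mul_index _
  rcases hdiv n hnm hn1 with h2 | ⟨rfl, hn', hq, hs', hc'⟩
  · refine even_normalizer_false h h3 H hbx x.2 S hS ?_
    rw [← hnorm, mul_comm 2 n, mul_comm _ n] at h2
    exact Nat.dvd_of_mul_dvd_mul_left (Nat.pos_of_ne_zero fun e => by rw [e] at hn1; simp at hn1) h2
  · have hcard' : Nat.card H = 439560 := by rw [hcard, hq, hs', hc']; norm_num
    refine eleven_false h h3 H hN hZ hq hcard' (by rw [← hs, hs']) (by rw [← hc, hc']) hbx x.2 S hS ?_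
    rw [← hH, hcard', hn'] at hnorm
    omega

end CfsgLib.LocalEvenB.MinIndexSU
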